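import Cfsg.Agent.Lib.Solv.DihedralWreath.Model

/-!
# Further facts about the wreath product model
-/

set_option autoImplicit false
set_option synthInstance.maxSize 4000

namespace Cfsg.Agent.Solv.DWr

open DihedralGroup

/-- The base group. -/
def MBase : Subgroup M := baseSub (fun _ => true) rfl (fun _ _ _ _ => rfl) (fun _ _ => rfl)

theorem mem_base {g : M} : g ∈ MBase ↔ g.right = 1 :=
  ⟨fun h => h.1, fun h => ⟨h, rfl, rfl⟩⟩

instance (g : M) : Decidable (g ∈ MBase) := decidable_of_iff (g.right = 1) mem_base.symm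

theorem base_facts : ∀ g : M, g ∈ MBase →
    g * g ∈ MZ ∧ (g * z1 = z1 * g ∧ g * z2 = z2 * g) ∧ ∀ h : M, h ∈ MBase → g * h * (h * g)⁻¹ ∈ MZ := by
  decide +kernel

theorem zset_central : ∀ u : M, u ∈ MZ → ∀ g : M, g ∈ MBase → u * g = g * u := by
  decide +kernel

theorem zset_le : ∀ u : M, u ∈ MZ → u ∈ MBase ∧ u ∈ MA ∧ u ∈ MB ∧ u * u = 1 := by
  decide +kernel

theorem base_split : ∀ g : M, g ∈ MBase → ∃ a : M, a ∈ MA ∧ a⁻¹ * g ∈ MB := by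
  decide +kernel

theorem ab_le_base : ∀ g : M, g ∈ MA ∨ g ∈ MB → g ∈ MBase := by
  decide +kernel

theorem gens_base : a1 ∈ MBase ∧ a2 ∈ MBase ∧ b1 ∈ MBase ∧ b2 ∈ MBase ∧ z1 ∈ MBase ∧ z2 ∈ MBase ∧ w ∉ MBase := by
  decide +kernel

theorem card_base : Fintype.card {g : M // g ∈ MBase} = 64 := by
  decide +kernel

theorem ma_span : ∀ g : M, g ∈ MA → ∃ i j k l : Fin 2,
    g = a1 ^ i.val * a2 ^ j.val * z1 ^ k.val * z2 ^ l.val := by
  decide +kernel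

theorem mb_span : ∀ g : M, g ∈ MB → ∃ i j k l : Fin 2,
    g = b1 ^ i.val * b2 ^ j.val * z1 ^ k.val * z2 ^ l.val := by
  decide +kernel

theorem base_center : ∀ g : M, g ∈ MBase → g * a1 = a1 * g → g * b1 = b1 * g → g * a2 = a2 * g →
    g * b2 = b2 * g → g ∈ MZ := by
  decide +kernel

theorem fix_z1_base : ∀ g : M, g * z1 = z1 * g → g ∈ MBase := by
  decide +kernel

theorem pin_one : ∀ u : M, u ∈ MA → ∀ v : M, v ∈ MB → u * v * (u * v) = z1 →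
    inZ u.left.1 = false ∧ inZ v.left.1 = false := by
  decide +kernel

theorem pin_two : ∀ u : M, u ∈ MA → ∀ v : M, v ∈ MB → u * v * (u * v) = z2 →
    inZ u.left.2 = false ∧ inZ v.left.2 = false := by
  decide +kernel

theorem pin_zero : ∀ u : M, u ∈ MA → ∀ v : M, v ∈ MB → u * v * (u * v) = 1 →
    (inZ u.left.1 = true ∨ inZ v.left.1 = true) ∧ (inZ u.left.2 = true ∨ inZ v.left.2 = true) := by
  decide +kernel

theorem pin_finish : ∀ u : M,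
    (u ∈ MA → inZ u.left.1 = false → inZ u.left.2 = true → a1 * u ∈ MZ) ∧
    (u ∈ MA → inZ u.left.1 = true → inZ u.left.2 = false → a2 * u ∈ MZ) ∧
    (u ∈ MB → inZ u.left.1 = false → inZ u.left.2 = true → b1 * u ∈ MZ) ∧
    (u ∈ MB → inZ u.left.1 = true → inZ u.left.2 = false → b2 * u ∈ MZ) := by
  decide +kernel

/-- Two pairs with the commutator pattern of the standard generators are the standard ones modulo the centre. -/
theorem pin {u1 u2 v1 v2 : M} (hu1 : u1 ∈ MA) (hu2 : u2 ∈ MA) (hv1 : v1 ∈ MB) (hv2 : v2 ∈ MB)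
    (h11 : u1 * v1 * (u1 * v1) = z1) (h22 : u2 * v2 * (u2 * v2) = z2)
    (h12 : u1 * v2 * (u1 * v2) = 1) (h21 : u2 * v1 * (u2 * v1) = 1) :
    a1 * u1 ∈ MZ ∧ a2 * u2 ∈ MZ ∧ b1 * v1 ∈ MZ ∧ b2 * v2 ∈ MZ := by
  obtain ⟨p1, p1'⟩ := pin_one u1 hu1 v1 hv1 h11
  obtain ⟨p2, p2'⟩ := pin_two u2 hu2 v2 hv2 h22
  obtain ⟨q12, r12⟩ := pin_zero u1 hu1 v2 hv2 h12
  obtain ⟨q21, r21⟩ := pin_zero u2 hu2 v1 hv1 h21
  exact ⟨(pin_finish u1).1 hu1 p1 (r12.resolve_right (by simp [p2'])),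
    (pin_finish u2).2.1 hu2 (q21.resolve_right (by simp [p1'])) p2,
    (pin_finish v1).2.2.1 hv1 p1' (r21.resolve_left (by simp [p2])),
    (pin_finish v2).2.2.2 hv2 (q12.resolve_left (by simp [p1])) p2'⟩

theorem adjust_one : ∀ u : M, u ∈ MZ → ∀ v : M, v ∈ MZ → ∃ e : M,
    e ∈ MBase ∧ e * a2 = a2 * e ∧ e * b2 = b2 * e ∧
    (e * (b1 * u) * e⁻¹ = b1 ∨ e * (b1 * u) * e⁻¹ = b1 * z2) ∧
    (e * (a1 * v) * e⁻¹ = a1 ∨ e * (a1 * v) * e⁻¹ = a1 * z2) := by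
  decide +kernel

theorem adjust_two : ∀ u : M, u ∈ MZ → ∀ v : M, v ∈ MZ → ∃ e : M,
    e ∈ MBase ∧ e * a1 = a1 * e ∧ e * b1 = b1 * e ∧
    (e * (b2 * u) * e⁻¹ = b2 ∨ e * (b2 * u) * e⁻¹ = b2 * z1) ∧
    (e * (a2 * v) * e⁻¹ = a2 ∨ e * (a2 * v) * e⁻¹ = a2 * z1) := by
  decide +kernel

theorem zz_facts : zz ≠ 1 ∧ zz ∈ MBase ∧ zz ∈ MZ ∧ z1 ≠ zz ∧ z1 ≠ 1 ∧ z1 ≠ z2 ∧ zz * zz = 1 := by
  decide +kernel

theorem apart_one : ∀ u : M, u = 1 ∨ u = z2 → ∀ v : M, v = 1 ∨ v = z2 → ∀ x : M, x = a1 ∨ x = b1 →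
    (x * (u * v) = x ∨ x * (u * v) = x * z1) → u = v := by
  decide +kernel

theorem apart_two : ∀ u : M, u = 1 ∨ u = z1 → ∀ v : M, v = 1 ∨ v = z1 → ∀ x : M, x = a2 ∨ x = b2 →
    (x * (u * v) = x ∨ x * (u * v) = x * z2) → u = v := by
  decide +kernel

theorem w_fixed : ∀ u : M, u ∈ MZ → w * u * w * u = 1 → u = 1 ∨ u = zz := by
  decide +kernel

theorem w_fixed' : ∀ u : M, u ∈ MZ → w * u * w = u → u = 1 ∨ u = zz := by
  decide +kernel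

theorem w_z : w * 1 * w = 1 ∧ w * z1 * w = z2 ∧ w * z2 * w = z1 := by
  decide +kernel

theorem quot_facts : ∀ u : M, u = 1 ∨ u = z2 →
    (a1 * (b1 * u)) * (a1 * (b1 * u)) = z1 ∧ a1 * (w * (b1 * u) * w) = w * (b1 * u) * w * a1 := by
  decide +kernel

/-- A subgroup containing the three standard generators is everything. -/
theorem eq_top_of_gens (H : Subgroup M) (ha : a1 ∈ H) (hb : b1 ∈ H) (hw : w ∈ H) : H = ⊤ := by
  obtain ⟨hww, hwa, hwb, -⟩ := rel_conj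
  obtain ⟨hz1, hz2, -⟩ := rel_z
  have ha2 : a2 ∈ H := hwa ▸ H.mul_mem (H.mul_mem hw ha) hw
  have hb2 : b2 ∈ H := hwb ▸ H.mul_mem (H.mul_mem hw hb) hw
  have hz1' : z1 ∈ H := hz1 ▸ H.mul_mem (H.mul_mem ha hb) (H.mul_mem ha hb)
  have hz2' : z2 ∈ H := hz2 ▸ H.mul_mem (H.mul_mem ha2 hb2) (H.mul_mem ha2 hb2)
  have hA : ∀ g : M, g ∈ MA → g ∈ H := fun g hg => by
    obtain ⟨i, j, k, l, rfl⟩ := ma_span g hg
    exact H.mul_mem (H.mul_mem (H.mul_mem (H.pow_mem ha _) (H.pow_mem ha2 _)) (H.pow_mem hz1' _)) (H.pow_mem hz2' _)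
  have hB : ∀ g : M, g ∈ MB → g ∈ H := fun g hg => by
    obtain ⟨i, j, k, l, rfl⟩ := mb_span g hg
    exact H.mul_mem (H.mul_mem (H.mul_mem (H.pow_mem hb _) (H.pow_mem hb2 _)) (H.pow_mem hz1' _)) (H.pow_mem hz2' _)
  have hbase : ∀ g : M, g ∈ MBase → g ∈ H := fun g hg => by
    obtain ⟨a, haA, hbB⟩ := base_split g hg
    have := H.mul_mem (hA a haA) (hB _ hbB)
    rwa [mul_inv_cancel_left] at this
  refine eq_top_iff.2 fun g _ => ?_
  have hsplit : ∀ g : M, g ∈ MBase ∨ g * w ∈ MBase := by decide +kernel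
  rcases hsplit g with h | h
  · exact hbase g h
  · have := H.mul_mem (hbase _ h) hw
    rwa [mul_assoc, hww, mul_one] at this

end Cfsg.Agent.Solv.DWr
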