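import Cfsg.Agent.Lib.Solv.DihedralWreath.Facts

/-!
# 2-groups of sectional rank four containing the wreath product of a dihedral group of order eight
-/

set_option autoImplicit false
set_option linter.unusedSectionVars false

namespace Cfsg.Agent.Solv.DWr

open Cfsg.Agent.Perm.SectionalFour (card_le_of_rank exists_central)

variable {S : Type*} [Group S] [Finite S] {φ : M →* S}

theorem card_subtype_map (hinj : Function.Injective φ) (H : Subgroup M) :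
    Nat.card ↥(H.map φ) = Nat.card ↥H :=
  Subgroup.card_map_of_injective hinj

theorem card_base' : Nat.card ↥MBase = 64 := by
  rw [← card_base, ← Nat.card_eq_fintype_card]

theorem card_sets : Nat.card ↥MA = 16 ∧ Nat.card ↥MB = 16 ∧ Nat.card ↥MZ = 4 := by
  obtain ⟨h1, h2, h3⟩ := card_MA
  rw [← Nat.card_eq_fintype_card] at h1 h2 h3
  exact ⟨h1, h2, h3⟩

/-- Conjugation by `t` moves `g` only by an element of the centre of the base group. -/
def Good (φ : M →* S) (t : S) (g : M) : Prop := ∃ ζ ∈ MZ, t * φ g * t⁻¹ = φ (g * ζ)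

theorem fix_z {t : S} (h1 : t * φ z1 * t⁻¹ = φ z1) (h2 : t * φ z2 * t⁻¹ = φ z2) :
    ∀ u ∈ MZ, t * φ u * t⁻¹ = φ u := by
  intro u hu
  obtain ⟨-, -, hzz, -⟩ := rel_z
  rcases (mz_cases u).1 hu with rfl | rfl | rfl | rfl
  · simp
  · exact h1
  · exact h2
  · rw [← hzz, map_mul, ← conj_mul, h1, h2]

theorem good_of_gens {t : S} (hz : ∀ u ∈ MZ, t * φ u * t⁻¹ = φ u) (ha1 : Good φ t a1) (ha2 : Good φ t a2)
    (hb1 : Good φ t b1) (hb2 : Good φ t b2) : ∀ g ∈ MBase, Good φ t g := by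
  let K : Subgroup M :=
    { carrier := {g | g ∈ MBase ∧ Good φ t g}
      one_mem' := ⟨one_mem _, 1, one_mem _, by simp⟩
      mul_mem' := by
        rintro g h ⟨hg, ζ, hζ, hgt⟩ ⟨hh, η, hη, hht⟩
        refine ⟨MBase.mul_mem hg hh, ζ * η, MZ.mul_mem hζ hη, ?_⟩
        rw [map_mul, ← conj_mul, hgt, hht, ← map_mul]
        exact congrArg φ (by
          calc g * ζ * (h * η) = g * (ζ * h) * η := by group
            _ = g * (h * ζ) * η := by rw [zset_central ζ hζ h hh]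
            _ = g * h * (ζ * η) := by group)
      inv_mem' := by
        rintro g ⟨hg, ζ, hζ, hgt⟩
        refine ⟨MBase.inv_mem hg, ζ⁻¹, MZ.inv_mem hζ, ?_⟩
        rw [map_inv, ← conj_inv, hgt, ← map_inv]
        exact congrArg φ (by rw [mul_inv_rev, zset_central _ (MZ.inv_mem hζ) _ (MBase.inv_mem hg)]) }
  have hK : ∀ g, g ∈ MBase → g ∈ K := by
    intro g hg
    obtain ⟨ga1, ga2, gb1, gb2, gz1, gz2, -⟩ := gens_base
    obtain ⟨-, -, -, -, -, -, hz1, hz2, -⟩ := mem_sets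
    have kz : ∀ u ∈ MZ, u ∈ K := fun u hu =>
      ⟨(zset_le u hu).1, 1, one_mem _, by rw [mul_one]; exact hz u hu⟩
    have kA : ∀ v : M, v ∈ MA → v ∈ K := fun v hv => by
      obtain ⟨i, j, k, l, rfl⟩ := ma_span v hv
      exact K.mul_mem (K.mul_mem (K.mul_mem (K.pow_mem ⟨ga1, ha1⟩ _) (K.pow_mem ⟨ga2, ha2⟩ _))
        (K.pow_mem (kz _ hz1) _)) (K.pow_mem (kz _ hz2) _)
    have kB : ∀ v : M, v ∈ MB → v ∈ K := fun v hv => by
      obtain ⟨i, j, k, l, rfl⟩ := mb_span v hv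
      exact K.mul_mem (K.mul_mem (K.mul_mem (K.pow_mem ⟨gb1, hb1⟩ _) (K.pow_mem ⟨gb2, hb2⟩ _))
        (K.pow_mem (kz _ hz1) _)) (K.pow_mem (kz _ hz2) _)
    obtain ⟨a, ha, hb⟩ := base_split g hg
    have := K.mul_mem (kA a ha) (kB _ hb)
    rwa [mul_inv_cancel_left] at this
  exact fun g hg => (hK g hg).2

/-- The section argument: nothing outside the base group acts trivially on it modulo its centre. -/
theorem step (hr : Cfsg.SectionalPRankLE 2 4 S) (hinj : Function.Injective φ) {t : S}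
    (hz : ∀ u ∈ MZ, t * φ u * t⁻¹ = φ u) (hgood : ∀ g ∈ MBase, Good φ t g) (h2t : t * t ∈ MBase.map φ) :
    t ∈ MBase.map φ := by
  by_contra hout
  obtain ⟨s, hs, hts⟩ := h2t
  have hcent : ∀ g ∈ MBase, s * g = g * s := by
    intro g hg
    refine hinj ?_
    obtain ⟨ζ, hζ, hgt⟩ := hgood g hg
    rw [map_mul, map_mul, hts]
    have h1 : t * (t * φ g * t⁻¹) * t⁻¹ = φ g := by
      rw [hgt, map_mul, ← conj_mul, hgt, hz ζ hζ, ← map_mul, mul_assoc, (zset_le ζ hζ).2.2.2, mul_one]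
    calc t * t * φ g = t * (t * φ g * t⁻¹) * t⁻¹ * (t * t) := by group
      _ = φ g * (t * t) := by rw [h1]
  obtain ⟨ga1, ga2, gb1, gb2, -, -, -⟩ := gens_base
  have hsZ : s ∈ MZ := base_center s hs (hcent _ ga1) (hcent _ gb1) (hcent _ ga2) (hcent _ gb2)
  have mov : ∀ (e : ℕ), ∀ g ∈ MBase, ∃ ζ ∈ MZ, t ^ e * φ g = φ (g * ζ) * t ^ e := by
    intro e
    induction e with
    | zero => exact fun g _ => ⟨1, one_mem _, by simp⟩
    | succ e ih =>
      intro g hg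
      obtain ⟨ζ, hζ, hgt⟩ := hgood g hg
      obtain ⟨η, hη, he⟩ := ih (g * ζ) (MBase.mul_mem hg (zset_le ζ hζ).1)
      refine ⟨ζ * η, MZ.mul_mem hζ hη, ?_⟩
      calc t ^ (e + 1) * φ g = t ^ e * (t * φ g * t⁻¹) * t := by rw [pow_succ]; group
        _ = φ (g * ζ * η) * t ^ e * t := by rw [hgt, he]
        _ = φ (g * (ζ * η)) * t ^ (e + 1) := by rw [pow_succ, mul_assoc g, mul_assoc]
  let T : Subgroup S :=
    { carrier := {x | ∃ g ∈ MBase, ∃ e : ℕ, x = φ g * t ^ e}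
      one_mem' := ⟨1, one_mem _, 0, by simp⟩
      mul_mem' := by
        rintro _ _ ⟨g, hg, e, rfl⟩ ⟨h, hh, f, rfl⟩
        obtain ⟨ζ, hζ, he⟩ := mov e h hh
        refine ⟨g * (h * ζ), MBase.mul_mem hg (MBase.mul_mem hh (zset_le ζ hζ).1), e + f, ?_⟩
        rw [map_mul φ g, pow_add, show φ g * t ^ e * (φ h * t ^ f) = φ g * (t ^ e * φ h) * t ^ f by group, he]
        group
      inv_mem' := by
        rintro _ ⟨g, hg, e, rfl⟩
        obtain ⟨n, hn, hne⟩ : ∃ n, 0 < n ∧ t ^ n = 1 := ⟨orderOf t, orderOf_pos t, pow_orderOf_eq_one t⟩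
        have hinv : (t ^ e)⁻¹ = t ^ (e * (n - 1)) := inv_eq_of_mul_eq_one_right (by
          rw [← pow_add, show e + e * (n - 1) = n * e by
            obtain ⟨k, rfl⟩ := Nat.exists_eq_succ_of_ne_zero hn.ne'
            simp only [Nat.succ_sub_one, Nat.succ_mul]; ring, pow_mul, hne, one_pow])
        obtain ⟨ζ, hζ, he⟩ := mov (e * (n - 1)) g⁻¹ (MBase.inv_mem hg)
        exact ⟨g⁻¹ * ζ, MBase.mul_mem (MBase.inv_mem hg) (zset_le ζ hζ).1, e * (n - 1), by
          rw [mul_inv_rev, hinv, ← map_inv, he]⟩ }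
  have hBT : MBase.map φ ≤ T := by
    rintro _ ⟨g, hg, rfl⟩
    exact ⟨g, hg, 0, by simp⟩
  have hZT : MZ.map φ ≤ T := le_trans (Subgroup.map_mono fun u hu => (zset_le u hu).1) hBT
  have htT : t ∈ T := ⟨1, one_mem _, 1, by simp⟩
  have hN : ∀ x ∈ T, ∀ n ∈ MZ.map φ, x * n * x⁻¹ ∈ MZ.map φ := by
    rintro _ ⟨g, hg, e, rfl⟩ _ ⟨u, hu, rfl⟩
    obtain ⟨ζ, hζ, he⟩ := mov e u (zset_le u hu).1
    refine ⟨g * (u * ζ) * g⁻¹, ?_, ?_⟩
    · rw [← zset_central _ (MZ.mul_mem hu hζ) g hg, mul_inv_cancel_right]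
      exact MZ.mul_mem hu hζ
    · rw [map_mul, map_mul φ g, map_inv, show φ g * t ^ e * φ u * (φ g * t ^ e)⁻¹ =
        φ g * (t ^ e * φ u) * (t ^ e)⁻¹ * (φ g)⁻¹ by group, he]
      group
  have hnf : ∀ g ∈ MBase, ∀ h ∈ MBase, ∀ e f : ℕ, ∃ ζ ∈ MZ,
      φ g * t ^ e * (φ h * t ^ f) = φ (g * h * ζ) * t ^ (e + f) := by
    intro g hg h hh e f
    obtain ⟨ζ, hζ, he⟩ := mov e h hh
    refine ⟨ζ, hζ, ?_⟩
    rw [mul_assoc g, map_mul φ g, pow_add, show φ g * t ^ e * (φ h * t ^ f) = φ g * (t ^ e * φ h) * t ^ f by group, he]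
    group
  have hcomm : ∀ x ∈ T, ∀ y ∈ T, x * y * x⁻¹ * y⁻¹ ∈ MZ.map φ := by
    rintro _ ⟨g, hg, e, rfl⟩ _ ⟨h, hh, f, rfl⟩
    obtain ⟨ζ, hζ, h1⟩ := hnf g hg h hh e f
    obtain ⟨η, hη, h2⟩ := hnf h hh g hg f e
    refine ⟨g * h * ζ * (h * g * η)⁻¹, ?_, ?_⟩
    · have hc := (base_facts g hg).2.2 h hh
      have hkey : g * h * ζ * (h * g * η)⁻¹ = g * h * (h * g)⁻¹ * (ζ * η⁻¹) := by
        have := zset_central _ (MZ.mul_mem hζ (MZ.inv_mem hη)) (h * g)⁻¹ (MBase.inv_mem (MBase.mul_mem hh hg))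
        calc g * h * ζ * (h * g * η)⁻¹ = g * h * (ζ * η⁻¹ * (h * g)⁻¹) := by group
          _ = g * h * (h * g)⁻¹ * (ζ * η⁻¹) := by rw [this]; group
      rw [hkey]
      exact MZ.mul_mem hc (MZ.mul_mem hζ (MZ.inv_mem hη))
    · rw [show φ g * t ^ e * (φ h * t ^ f) * (φ g * t ^ e)⁻¹ * (φ h * t ^ f)⁻¹ =
        φ g * t ^ e * (φ h * t ^ f) * (φ h * t ^ f * (φ g * t ^ e))⁻¹ by group, h1, h2, map_mul φ _ (_)⁻¹,
        map_inv, add_comm f e]
      group
  have hsq : ∀ x ∈ T, x ^ 2 ∈ MZ.map φ := by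
    rintro _ ⟨g, hg, e, rfl⟩
    obtain ⟨ζ, hζ, h1⟩ := hnf g hg g hg e e
    refine ⟨g * g * ζ * s ^ e, MZ.mul_mem (MZ.mul_mem (base_facts g hg).1 hζ) (MZ.pow_mem hsZ e), ?_⟩
    rw [pow_two, h1, map_mul φ _ (s ^ e), map_pow, hts, ← two_mul, pow_mul, pow_two]
  have hle := card_le_of_rank hr T (MZ.map φ) hZT hN hcomm hsq
  rw [card_subtype_map hinj, card_sets.2.2] at hle
  have hlt : MBase.map φ < T := lt_of_le_of_ne hBT fun h => hout (h ▸ htT)
  have hdvd := Subgroup.card_dvd_of_le hlt.le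
  rw [card_subtype_map hinj, card_base'] at hdvd
  obtain ⟨k, hk⟩ := hdvd
  have hk1 : k = 1 := by
    have hpos : 0 < Nat.card ↥T := Nat.card_pos
    omega
  refine hlt.ne (Subgroup.eq_of_le_of_card_ge hlt.le ?_)
  rw [card_subtype_map hinj, card_base', hk, hk1]

/-- The base group contains its centraliser. -/
theorem centralizer_base (h2 : IsPGroup 2 S) (hr : Cfsg.SectionalPRankLE 2 4 S) (hinj : Function.Injective φ)
    {c : S} (hc : ∀ g ∈ MBase, c * φ g = φ g * c) : c ∈ MBase.map φ := by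
  obtain ⟨k, hk⟩ := h2 c
  induction k generalizing c with
  | zero => rw [pow_zero, pow_one] at hk; rw [hk]; exact one_mem _
  | succ k ih =>
    have h2c : c * c ∈ MBase.map φ := by
      refine ih (fun g hg => ?_) ?_
      · rw [mul_assoc, hc g hg, ← mul_assoc, hc g hg, mul_assoc]
      · rw [← pow_two, ← pow_mul, ← pow_succ']
        exact hk
    refine step hr hinj (fun u hu => ?_) (fun g hg => ⟨1, one_mem _, ?_⟩) h2c
    · rw [hc u (zset_le u hu).1, mul_inv_cancel_right]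
    · rw [mul_one, hc g hg, mul_inv_cancel_right]

theorem fix_lemma (h2 : IsPGroup 2 S) (hr : Cfsg.SectionalPRankLE 2 4 S) (hinj : Function.Injective φ) {t : S}
    (hz : ∀ u ∈ MZ, t * φ u * t⁻¹ = φ u) (ha1 : Good φ t a1) (ha2 : Good φ t a2) (hb1 : Good φ t b1)
    (hb2 : Good φ t b2) : t ∈ MBase.map φ := by
  have hgood := good_of_gens hz ha1 ha2 hb1 hb2
  refine step hr hinj hz hgood (centralizer_base h2 hr hinj fun g hg => ?_)
  obtain ⟨ζ, hζ, hgt⟩ := hgood g hg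
  have h1 : t * (t * φ g * t⁻¹) * t⁻¹ = φ g := by
    rw [hgt, map_mul, ← conj_mul, hgt, hz ζ hζ, ← map_mul, mul_assoc, (zset_le ζ hζ).2.2.2, mul_one]
  calc t * t * φ g = t * (t * φ g * t⁻¹) * t⁻¹ * (t * t) := by group
    _ = φ g * (t * t) := by rw [h1]

theorem center_eq (h2 : IsPGroup 2 S) (hr : Cfsg.SectionalPRankLE 2 4 S) (hinj : Function.Injective φ) :
    Subgroup.center S = Subgroup.zpowers (φ zz) ∧
      (Subgroup.center ↥φ.range).map φ.range.subtype = Subgroup.zpowers (φ zz) ∧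
      Nat.card ↥(Subgroup.zpowers (φ zz)) = 2 := by
  obtain ⟨hzz1, hzzb, -, -, -, -, hzzsq⟩ := zz_facts
  have hcard : Nat.card ↥(Subgroup.zpowers (φ zz)) = 2 := by
    rw [Nat.card_zpowers, orderOf_eq_prime (hp := ⟨Nat.prime_two⟩) (by rw [← map_pow, pow_two, hzzsq, map_one])
      fun h => hzz1 (hinj (h.trans φ.map_one.symm))]
  refine ⟨le_antisymm ?_ ?_, le_antisymm ?_ ?_, hcard⟩
  · intro x hx
    obtain ⟨g, -, rfl⟩ := centralizer_base h2 hr hinj (c := x) fun g _ => (Subgroup.mem_center_iff.1 hx _).symm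
    have hc : ∀ h, g * h = h * g := fun h => hinj (by
      rw [map_mul, map_mul]; exact (Subgroup.mem_center_iff.1 hx _).symm)
    rcases center_M g ⟨hc _, hc _, hc _⟩ with rfl | rfl
    · rw [map_one]; exact one_mem _
    · exact Subgroup.mem_zpowers _
  · have : Nontrivial S := ⟨⟨φ zz, 1, fun h => hzz1 (hinj (h.trans φ.map_one.symm))⟩⟩
    obtain ⟨x, hx, hx1, hxc⟩ := exists_central h2 ⊤ (Ne.symm bot_ne_top)
    obtain ⟨g, -, rfl⟩ := centralizer_base h2 hr hinj (c := x) fun g _ => (hxc _).symm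
    have hc : ∀ h, g * h = h * g := fun h => hinj (by rw [map_mul, map_mul]; exact (hxc _).symm)
    rcases center_M g ⟨hc _, hc _, hc _⟩ with rfl | rfl
    · exact absurd φ.map_one hx1
    · rw [Subgroup.zpowers_le]
      exact Subgroup.mem_center_iff.2 fun y => hxc y
  · rintro _ ⟨⟨_, g, rfl⟩, hx, rfl⟩
    have hc : ∀ h, g * h = h * g := fun h => hinj (by
      rw [map_mul, map_mul]
      exact (congrArg Subtype.val (Subgroup.mem_center_iff.1 hx ⟨φ h, h, rfl⟩)).symm)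
    rcases center_M g ⟨hc _, hc _, hc _⟩ with rfl | rfl
    · show φ 1 ∈ _; rw [map_one]; exact one_mem _
    · exact Subgroup.mem_zpowers _
  · rw [Subgroup.zpowers_le]
    refine ⟨⟨φ zz, zz, rfl⟩, Subgroup.mem_center_iff.2 ?_, rfl⟩
    rintro ⟨_, g, rfl⟩
    exact Subtype.ext (by show φ g * φ zz = φ zz * φ g; rw [← map_mul, ← map_mul, zz_center])

theorem le_or_le {G : Type*} [Group G] {V A B : Subgroup G} (h : ∀ v ∈ V, v ∈ A ∨ v ∈ B) : V ≤ A ∨ V ≤ B := by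
  by_contra hne
  simp only [not_or, SetLike.not_le_iff_exists] at hne
  obtain ⟨⟨x, hx, hxA⟩, ⟨y, hy, hyB⟩⟩ := hne
  have hxB := (h x hx).resolve_left hxA
  have hyA := (h y hy).resolve_right hyB
  rcases h (x * y) (V.mul_mem hx hy) with h' | h'
  · exact hxA ((A.mul_mem_cancel_right hyA).1 h')
  · exact hyB ((B.mul_mem_cancel_left hxB).1 h')

theorem four_gen_eq (hinj : Function.Injective φ) {V : Subgroup S} (hV : V ≤ φ.range)
    (hn : ∀ g ∈ φ.range, ∀ v ∈ V, g * v * g⁻¹ ∈ V) (hc : ∀ u ∈ V, ∀ v ∈ V, u * v = v * u)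
    (hsq : ∀ v ∈ V, v * v = 1) (hcard : Nat.card ↥V = 16) : V = MA.map φ ∨ V = MB.map φ := by
  have h : ∀ v ∈ V, v ∈ MA.map φ ∨ v ∈ MB.map φ := by
    intro x hx
    obtain ⟨v, rfl⟩ := hV hx
    rcases elem_sets v (hinj (by rw [map_mul, map_one]; exact hsq _ hx)) (fun g => hinj (by
        simp only [map_mul, map_inv]
        exact hc _ hx _ (hn _ ⟨g, rfl⟩ _ hx))) with h | h
    · exact Or.inl (Subgroup.mem_map_of_mem φ h)
    · exact Or.inr (Subgroup.mem_map_of_mem φ h)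
  rcases le_or_le h with h | h
  · exact Or.inl (Subgroup.eq_of_le_of_card_ge h (by rw [card_subtype_map hinj, card_sets.1, hcard]))
  · exact Or.inr (Subgroup.eq_of_le_of_card_ge h (by rw [card_subtype_map hinj, card_sets.2.1, hcard]))

theorem exists_conj (hinj : Function.Injective φ) {t : S} (ht : t ∈ Subgroup.normalizer (φ.range : Set S)) :
    ∃ c : M →* M, Function.Injective c ∧ ∀ g, t * φ g * t⁻¹ = φ (c g) := by
  have h : ∀ g, ∃ g', φ g' = t * φ g * t⁻¹ := fun g =>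
    (Subgroup.mem_normalizer_iff.1 ht (φ g)).1 ⟨g, rfl⟩
  choose c hc using h
  refine ⟨{ toFun := c
            map_one' := hinj (by rw [hc]; simp)
            map_mul' := fun x y => hinj (by rw [map_mul, hc, hc, hc, map_mul, conj_mul]) },
    fun x y hxy => ?_, fun g => (hc g).symm⟩
  have := congrArg φ hxy
  simp only [MonoidHom.coe_mk, OneHom.coe_mk, hc] at this
  exact hinj (mul_left_cancel (mul_right_cancel this))

/-- Conjugation either fixes or exchanges the two normal elementary subgroups of order sixteen. -/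
theorem image_sets {c : M →* M} (hc : Function.Injective c)
    (hP : ∀ g : M, g ∈ c.range) :
    (MA.map c = MA ∧ MB.map c = MB) ∨ (MA.map c = MB ∧ MB.map c = MA) := by
  have key : ∀ H : Subgroup M, (∀ u : M, u ∈ H → u * u = 1 ∧ ∀ v : M, v ∈ H → u * v = v * u) →
      (∀ g : M, ∀ u : M, u ∈ H → g * u * g⁻¹ ∈ H) → Nat.card ↥H = 16 → H.map c = MA ∨ H.map c = MB := by
    intro H h1 h2 h3
    have hcard : Nat.card ↥(H.map c) = 16 := by rw [Subgroup.card_map_of_injective hc, h3]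
    have h : ∀ v ∈ H.map c, v ∈ MA ∨ v ∈ MB := by
      rintro _ ⟨v, hv, rfl⟩
      refine elem_sets _ (by rw [← map_mul, (h1 v hv).1, map_one]) fun g => ?_
      obtain ⟨g, rfl⟩ := hP g
      simp only [← map_mul, ← map_inv]
      rw [(h1 v hv).2 _ (h2 g v hv)]
    rcases le_or_le h with h | h
    · exact Or.inl (Subgroup.eq_of_le_of_card_ge h (by rw [card_sets.1, hcard]))
    · exact Or.inr (Subgroup.eq_of_le_of_card_ge h (by rw [card_sets.2.1, hcard]))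
  have hne : MA ≠ MB := fun h => mem_sets.2.2.2.2.1 (h ▸ mem_sets.1)
  have hmap : MA.map c ≠ MB.map c := fun h => hne (Subgroup.map_injective hc h)
  rcases key MA aset_comm aset_normal card_sets.1 with h | h <;>
    rcases key MB bset_comm bset_normal card_sets.2.1 with h' | h'
  · exact absurd (h.trans h'.symm) hmap
  · exact Or.inl ⟨h, h'⟩
  · exact Or.inr ⟨h, h'⟩
  · exact absurd (h.trans h'.symm) hmap

theorem eq_of_mul_mem {x y : M} (hx : x * x = 1) (h : x * y ∈ MZ) : ∃ ζ ∈ MZ, y = x * ζ :=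
  ⟨x * y, h, by rw [← mul_assoc, hx, one_mul]⟩

theorem image_gens {c : M →* M} (h1 : c z1 = z1) (h2 : c z2 = z2)
    (h : (MA.map c = MA ∧ MB.map c = MB) ∨ (MA.map c = MB ∧ MB.map c = MA)) :
    (MA.map c = MA ∧ MB.map c = MB ∧ (∃ ζ ∈ MZ, c a1 = a1 * ζ) ∧ (∃ ζ ∈ MZ, c a2 = a2 * ζ) ∧
      (∃ ζ ∈ MZ, c b1 = b1 * ζ) ∧ (∃ ζ ∈ MZ, c b2 = b2 * ζ)) ∨
    (MA.map c = MB ∧ (∃ ζ ∈ MZ, c b1 = a1 * ζ) ∧ (∃ ζ ∈ MZ, c b2 = a2 * ζ) ∧
      (∃ ζ ∈ MZ, c a1 = b1 * ζ) ∧ (∃ ζ ∈ MZ, c a2 = b2 * ζ)) := by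
  obtain ⟨sa1, sb1, sa2, sb2⟩ := rel_sq
  obtain ⟨za1, za2, -, -, -⟩ := rel_z
  obtain ⟨ma1, ma2, mb1, mb2, -⟩ := mem_sets
  have hm : ∀ {H : Subgroup M} {x : M}, x ∈ H → c x ∈ H.map c := fun hx => Subgroup.mem_map_of_mem c hx
  have z1' : b1 * a1 * (b1 * a1) = z1 := by decide +kernel
  have z2' : b2 * a2 * (b2 * a2) = z2 := by decide +kernel
  have o12 : a1 * b2 * (a1 * b2) = 1 ∧ a2 * b1 * (a2 * b1) = 1 ∧ b1 * a2 * (b1 * a2) = 1 ∧
      b2 * a1 * (b2 * a1) = 1 := by decide +kernel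
  rcases h with ⟨hA, hB⟩ | ⟨hA, hB⟩
  · obtain ⟨p1, p2, p3, p4⟩ := pin (hA ▸ hm ma1) (hA ▸ hm ma2) (hB ▸ hm mb1) (hB ▸ hm mb2)
      (by rw [← map_mul, ← map_mul, za1, h1]) (by rw [← map_mul, ← map_mul, za2, h2])
      (by rw [← map_mul, ← map_mul, o12.1, map_one]) (by rw [← map_mul, ← map_mul, o12.2.1, map_one])
    exact Or.inl ⟨hA, hB, eq_of_mul_mem sa1 p1, eq_of_mul_mem sa2 p2, eq_of_mul_mem sb1 p3, eq_of_mul_mem sb2 p4⟩
  · obtain ⟨p1, p2, p3, p4⟩ := pin (hB ▸ hm mb1) (hB ▸ hm mb2) (hA ▸ hm ma1) (hA ▸ hm ma2)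
      (by rw [← map_mul, ← map_mul, z1', h1]) (by rw [← map_mul, ← map_mul, z2', h2])
      (by rw [← map_mul, ← map_mul, o12.2.2.1, map_one]) (by rw [← map_mul, ← map_mul, o12.2.2.2, map_one])
    exact Or.inr ⟨hA, eq_of_mul_mem sa1 p1, eq_of_mul_mem sa2 p2, eq_of_mul_mem sb1 p3, eq_of_mul_mem sb2 p4⟩

theorem conj_w (c : M →* M) {t : S} (hc : ∀ g, t * φ g * t⁻¹ = φ (c g)) :
    ∀ g, φ w * t * φ g * (φ w * t)⁻¹ = φ (((MulAut.conj w).toMonoidHom.comp c) g) := by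
  intro g
  show _ = φ (w * c g * w⁻¹)
  rw [map_mul, map_mul, map_inv, ← hc]
  group

theorem z_images (h2 : IsPGroup 2 S) (hr : Cfsg.SectionalPRankLE 2 4 S) (hinj : Function.Injective φ) {t : S}
    {c : M →* M} (hci : Function.Injective c) (hc : ∀ g, t * φ g * t⁻¹ = φ (c g))
    (h : (MA.map c = MA ∧ MB.map c = MB) ∨ (MA.map c = MB ∧ MB.map c = MA)) :
    (c z1 = z1 ∧ c z2 = z2) ∨ (c z1 = z2 ∧ c z2 = z1) := by
  obtain ⟨hzz1, -, hzzm, hne, hz11, -, -⟩ := zz_facts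
  obtain ⟨-, -, hprod, hz1sq, hz2sq⟩ := rel_z
  obtain ⟨-, -, -, -, -, -, mz1, -⟩ := mem_sets
  have hzz : c zz = zz := by
    refine hinj ?_
    rw [← hc]
    have : φ zz ∈ Subgroup.center S := (center_eq h2 hr hinj).1 ▸ Subgroup.mem_zpowers _
    rw [Subgroup.mem_center_iff.1 this t, mul_inv_cancel_right]
  have hmem : c z1 ∈ MZ := by
    have hA := (zset_le z1 mz1).2.1
    have hB := (zset_le z1 mz1).2.2.1
    rcases h with ⟨e1, e2⟩ | ⟨e1, e2⟩
    · exact ab_inter _ (e1 ▸ Subgroup.mem_map_of_mem c hA) (e2 ▸ Subgroup.mem_map_of_mem c hB)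
    · exact ab_inter _ (e2 ▸ Subgroup.mem_map_of_mem c hB) (e1 ▸ Subgroup.mem_map_of_mem c hA)
  have hz2 : z2 = z1 * zz := by rw [← hprod, ← mul_assoc, hz1sq, one_mul]
  rcases (mz_cases _).1 hmem with e | e | e | e
  · exact absurd (hci (e.trans c.map_one.symm)) hz11
  · exact Or.inl ⟨e, by rw [hz2, map_mul, e, hzz]⟩
  · refine Or.inr ⟨e, ?_⟩
    rw [hz2, map_mul, e, hzz, hz2, mul_assoc]
    exact (congrArg (z1 * ·) zz_facts.2.2.2.2.2.2).trans (mul_one _)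
  · exact absurd (hci (e.trans hzz.symm)) hne

/-- An element normalising the wreath product and one of its normal elementary subgroups lies in it. -/
theorem mem_range_of_fix (h2 : IsPGroup 2 S) (hr : Cfsg.SectionalPRankLE 2 4 S) (hinj : Function.Injective φ) {t : S}
    {c : M →* M} (hci : Function.Injective c) (hc : ∀ g, t * φ g * t⁻¹ = φ (c g))
    (hA : MA.map c = MA) : t ∈ φ.range ∧ (c z1 = z1 → t ∈ MBase.map φ) := by
  have hsurj : ∀ g, g ∈ c.range := fun g => MonoidHom.mem_range.2 ((Finite.injective_iff_surjective.1 hci) g)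
  have hne : MA ≠ MB := fun h => mem_sets.2.2.2.2.1 (h ▸ mem_sets.1)
  have him := image_sets hci hsurj
  have key : ∀ {t : S} {c : M →* M}, Function.Injective c → (∀ g, t * φ g * t⁻¹ = φ (c g)) → MA.map c = MA →
      c z1 = z1 → c z2 = z2 → (MA.map c = MA ∧ MB.map c = MB) ∨ (MA.map c = MB ∧ MB.map c = MA) →
      t ∈ MBase.map φ := by
    intro t c _ hc hA e1 e2 h
    rcases image_gens e1 e2 h with ⟨-, -, ⟨u1, m1, f1⟩, ⟨u2, m2, f2⟩, ⟨u3, m3, f3⟩, ⟨u4, m4, f4⟩⟩ | ⟨h', -⟩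
    · exact fix_lemma h2 hr hinj (fix_z (by rw [hc, e1]) (by rw [hc, e2])) ⟨u1, m1, by rw [hc, f1]⟩
        ⟨u2, m2, by rw [hc, f2]⟩ ⟨u3, m3, by rw [hc, f3]⟩ ⟨u4, m4, by rw [hc, f4]⟩
    · exact absurd (hA.symm.trans h') hne
  rcases z_images h2 hr hinj hci hc him with ⟨e1, e2⟩ | ⟨e1, e2⟩
  · have := key hci hc hA e1 e2 him
    exact ⟨(Subgroup.map_le_range φ _) this, fun _ => this⟩
  · obtain ⟨hww, -⟩ := rel_conj
    have hwinv : w⁻¹ = w := inv_eq_of_mul_eq_one_left hww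
    let c' := (MulAut.conj w).toMonoidHom.comp c
    have hci' : Function.Injective c' := (MulAut.conj w).injective.comp hci
    have hA' : MA.map c' = MA := by
      rw [← Subgroup.map_map, hA]
      refine Subgroup.eq_of_le_of_card_ge ?_ (by rw [Subgroup.card_map_of_injective (MulAut.conj w).injective])
      rintro _ ⟨u, hu, rfl⟩
      exact aset_normal w u hu
    have h1 : c' z1 = z1 := by show w * c z1 * w⁻¹ = z1; rw [e1, hwinv]; exact w_z.2.2
    have h2' : c' z2 = z2 := by show w * c z2 * w⁻¹ = z2; rw [e2, hwinv]; exact w_z.2.1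
    have hmem := key hci' (conj_w c hc) hA' h1 h2'
      (image_sets hci' fun g => MonoidHom.mem_range.2 ((Finite.injective_iff_surjective.1 hci') g))
    refine ⟨(φ.range.mul_mem_cancel_left ⟨w, rfl⟩).1 ((Subgroup.map_le_range φ _) hmem), fun h => ?_⟩
    exact absurd (h.symm.trans e1) zz_facts.2.2.2.2.2.1

end Cfsg.Agent.Solv.DWr
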