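import Mathlib
import Cfsg.Agent.Lib.Perm.SectionalFour

/-!
# The wreath product of the dihedral group of order eight by a group of order two
-/

set_option autoImplicit false

namespace Cfsg.Agent.Solv.DWr

open DihedralGroup

abbrev D4 : Type := DihedralGroup 4

abbrev C2 : Type := Multiplicative (ZMod 2)

theorem c2_cases : ∀ a : C2, a = 1 ∨ a = Multiplicative.ofAdd 1 := by decide

theorem c2_ne : (Multiplicative.ofAdd 1 : C2) ≠ 1 := by decide

theorem c2_sq : (Multiplicative.ofAdd 1 : C2) * Multiplicative.ofAdd 1 = 1 := by decide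

/-- The swap of the two factors. -/
def swapAut : C2 →* MulAut (D4 × D4) where
  toFun c := if c = 1 then 1 else MulEquiv.prodComm
  map_one' := by simp
  map_mul' a b := by
    have hs : (MulEquiv.prodComm : D4 × D4 ≃* D4 × D4) * MulEquiv.prodComm = 1 := by
      ext x <;> rfl
    rcases c2_cases a with rfl | rfl <;> rcases c2_cases b with rfl | rfl <;> simp [c2_sq, hs]

/-- The model. -/
abbrev M : Type := (D4 × D4) ⋊[swapAut] C2

instance : Fintype M := Fintype.ofEquiv _ SemidirectProduct.equivProd.symm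

def a1 : M := SemidirectProduct.inl (sr 0, 1)
def b1 : M := SemidirectProduct.inl (sr 1, 1)
def a2 : M := SemidirectProduct.inl (1, sr 0)
def b2 : M := SemidirectProduct.inl (1, sr 1)
def z1 : M := SemidirectProduct.inl (r 2, 1)
def z2 : M := SemidirectProduct.inl (1, r 2)
def zz : M := SemidirectProduct.inl (r 2, r 2)
def w : M := SemidirectProduct.inr (Multiplicative.ofAdd 1)

theorem card_M : Nat.card M = 128 := by
  rw [SemidirectProduct.card, Nat.card_prod, DihedralGroup.nat_card, Nat.card_congr Multiplicative.toAdd,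
    Nat.card_zmod]

section Lift

variable {X : Type*} [Group X]

/-- The map from the dihedral group of order eight given by a pair of involutions. -/
def dihHom (x y : X) (hx : x * x = 1) (hy : y * y = 1) (h4 : (x * y) ^ 4 = 1) : D4 →* X :=
  have hpow : ∀ i j : ZMod 4, (x * y) ^ (i + j).val = (x * y) ^ i.val * (x * y) ^ j.val := fun i j => by
    rw [ZMod.val_add, ← pow_add]
    exact (pow_eq_pow_mod _ h4).symm
  have hinv : ∀ i j : ZMod 4, (x * y) ^ (j - i).val = ((x * y) ^ i.val)⁻¹ * (x * y) ^ j.val := fun i j => by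
    rw [eq_inv_mul_iff_mul_eq, ← hpow, add_sub_cancel]
  have hconj : ∀ i : ℕ, (x * y) ^ i * x = x * ((x * y) ^ i)⁻¹ := fun i => by
    induction i with
    | zero => simp
    | succ i ih =>
      have hxi : x⁻¹ = x := inv_eq_of_mul_eq_one_left hx
      have hyi : y⁻¹ = y := inv_eq_of_mul_eq_one_left hy
      have h1 : (x * y) * x = x * (x * y)⁻¹ := by rw [mul_inv_rev, hxi, hyi, mul_assoc]
      calc (x * y) ^ (i + 1) * x = (x * y) ^ i * ((x * y) * x) := by rw [pow_succ, mul_assoc]
        _ = x * (((x * y) ^ i)⁻¹ * (x * y)⁻¹) := by rw [h1, ← mul_assoc, ih, mul_assoc]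
        _ = x * ((x * y) ^ (i + 1))⁻¹ := by rw [← mul_inv_rev, ← pow_succ']
  { toFun := fun g => match g with
      | .r i => (x * y) ^ i.val
      | .sr i => x * (x * y) ^ i.val
    map_one' := by
      show (x * y) ^ (0 : ZMod 4).val = 1
      rw [ZMod.val_zero, pow_zero]
    map_mul' := by
      rintro (i | i) (j | j)
      · exact hpow i j
      · show x * (x * y) ^ (j - i).val = (x * y) ^ i.val * (x * (x * y) ^ j.val)
        rw [← mul_assoc, hconj, hinv, mul_assoc]
      · show x * (x * y) ^ (i + j).val = x * (x * y) ^ i.val * (x * y) ^ j.val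
        rw [hpow, mul_assoc]
      · show (x * y) ^ (j - i).val = x * (x * y) ^ i.val * (x * (x * y) ^ j.val)
        rw [hinv, mul_assoc, ← mul_assoc _ x, hconj, ← mul_assoc, ← mul_assoc, hx, one_mul] }

theorem dih_commute {x y g : X} (hx : Commute x g) (hy : Commute y g)
    (h1 : x * x = 1) (h2 : y * y = 1) (h4 : (x * y) ^ 4 = 1) (d : D4) : Commute (dihHom x y h1 h2 h4 d) g := by
  rcases d with i | i
  · exact (hx.mul_left hy).pow_left _
  · exact hx.mul_left ((hx.mul_left hy).pow_left _)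

theorem dih_conj {x y x' y' g : X} (hx : g * x * g = x') (hy : g * y * g = y') (hg : g * g = 1)
    (h1 : x * x = 1) (h2 : y * y = 1) (h4 : (x * y) ^ 4 = 1)
    (h1' : x' * x' = 1) (h2' : y' * y' = 1) (h4' : (x' * y') ^ 4 = 1) (d : D4) :
    g * dihHom x y h1 h2 h4 d * g = dihHom x' y' h1' h2' h4' d := by
  have hgi : g⁻¹ = g := inv_eq_of_mul_eq_one_left hg
  have hc : ∀ u v : X, g * (u * v) * g = (g * u * g) * (g * v * g) := fun u v => by
    simp only [mul_assoc]
    rw [← mul_assoc g g, hg, one_mul]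
  have hp : ∀ i : ℕ, g * (x * y) ^ i * g = (x' * y') ^ i := fun i => by
    induction i with
    | zero => rw [pow_zero, pow_zero, mul_one, hg]
    | succ i ih => rw [pow_succ, hc, ih, hc, hx, hy, pow_succ]
  rcases d with i | i
  · exact hp _
  · show g * (x * (x * y) ^ i.val) * g = x' * (x' * y') ^ i.val
    rw [hc, hx, hp]

/-- A homomorphism out of the model from its defining relations. -/
theorem exists_hom (x y u : X) (hx : x * x = 1) (hy : y * y = 1) (hu : u * u = 1) (h4 : (x * y) ^ 4 = 1)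
    (hxx : Commute x (u * x * u)) (hyy : Commute y (u * y * u)) (hxy : Commute x (u * y * u)) :
    ∃ f : M →* X, f a1 = x ∧ f b1 = y ∧ f w = u := by
  have hc : ∀ p q : X, u * (p * q) * u = (u * p * u) * (u * q * u) := fun p q => by
    simp only [mul_assoc]
    rw [← mul_assoc u u, hu, one_mul]
  have hback : ∀ p : X, u * (u * p * u) * u = p := fun p => by
    simp only [mul_assoc]
    rw [hu, mul_one, ← mul_assoc, hu, one_mul]
  have hx' : (u * x * u) * (u * x * u) = 1 := by rw [← hc, hx, mul_one, hu]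
  have hy' : (u * y * u) * (u * y * u) = 1 := by rw [← hc, hy, mul_one, hu]
  have hyx : Commute y (u * x * u) := by
    have h : u * (x * (u * y * u)) * u = u * ((u * y * u) * x) * u := by rw [hxy.eq]
    rw [hc x, hc _ x, hback] at h
    exact h.symm
  have h4' : ((u * x * u) * (u * y * u)) ^ 4 = 1 := by
    rw [← hc]
    simp only [pow_succ, pow_zero, one_mul, ← hc]
    have : (x * y) * (x * y) * (x * y) * (x * y) = 1 := by simpa only [pow_succ, pow_zero, one_mul] using h4
    rw [this, mul_one, hu]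
  let f1 := dihHom x y hx hy h4
  let f2 := dihHom (u * x * u) (u * y * u) hx' hy' h4'
  have hcomm : ∀ d e, Commute (f1 d) (f2 e) := fun d e =>
    dih_commute (g := f2 e) ((dih_commute (g := x) hxx.symm hxy.symm hx' hy' h4' e).symm)
      ((dih_commute (g := y) hyx.symm hyy.symm hx' hy' h4' e).symm) hx hy h4 d
  let fg : C2 →* X :=
    { toFun := fun c => if c = 1 then 1 else u
      map_one' := by simp
      map_mul' := fun a b => by
        rcases c2_cases a with rfl | rfl <;> rcases c2_cases b with rfl | rfl <;> simp [c2_sq, hu] }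
  have hfg : fg (Multiplicative.ofAdd 1) = u :=
    show (if (Multiplicative.ofAdd 1 : C2) = 1 then (1 : X) else u) = u from if_neg c2_ne
  refine ⟨SemidirectProduct.lift (f1.noncommCoprod f2 hcomm) fg fun c => ?_, ?_, ?_, ?_⟩
  · refine MonoidHom.ext fun d => ?_
    rcases c2_cases c with rfl | rfl
    · simp [swapAut, fg]
    · show f1 d.2 * f2 d.1 = u * (f1 d.1 * f2 d.2) * u⁻¹
      rw [inv_eq_of_mul_eq_one_left hu, hc, dih_conj rfl rfl hu hx hy h4 hx' hy' h4',
        dih_conj (hback x) (hback y) hu hx' hy' h4' hx hy h4]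
      exact hcomm _ _
  · rw [a1, SemidirectProduct.lift_inl]
    show x * (x * y) ^ (0 : ZMod 4).val * (f2 1) = x
    rw [map_one, ZMod.val_zero, pow_zero, mul_one, mul_one]
  · rw [b1, SemidirectProduct.lift_inl]
    show x * (x * y) ^ (1 : ZMod 4).val * (f2 1) = y
    rw [map_one, show (1 : ZMod 4).val = 1 from rfl, pow_one, mul_one, ← mul_assoc, hx, one_mul]
  · rw [w, SemidirectProduct.lift_inr, hfg]

end Lift

/-! ### Facts about the model -/

theorem hom_w_conj (g : M) : w * g * w = ⟨(g.left.2, g.left.1), g.right⟩ := by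
  revert g
  decide +kernel

theorem rel_conj : w * w = 1 ∧ w * a1 * w = a2 ∧ w * b1 * w = b2 ∧ w * z1 * w = z2 := by
  decide +kernel

theorem rel_sq : a1 * a1 = 1 ∧ b1 * b1 = 1 ∧ a2 * a2 = 1 ∧ b2 * b2 = 1 := by
  decide +kernel

theorem rel_comm : a1 * a2 = a2 * a1 ∧ b1 * b2 = b2 * b1 ∧ a1 * b2 = b2 * a1 ∧ a2 * b1 = b1 * a2 := by
  decide +kernel

theorem rel_z : a1 * b1 * (a1 * b1) = z1 ∧ a2 * b2 * (a2 * b2) = z2 ∧ z1 * z2 = zz ∧ z1 * z1 = 1 ∧ z2 * z2 = 1 := by
  decide +kernel

theorem center_M : ∀ g : M, (g * a1 = a1 * g ∧ g * b1 = b1 * g ∧ g * w = w * g) → g = 1 ∨ g = zz := by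
  decide +kernel

theorem zz_center : ∀ g : M, g * zz = zz * g := by
  decide +kernel

/-- A product set of the base group given by a condition on either coordinate. -/
def baseSub (P : D4 → Bool) (h1 : P 1 = true) (hm : ∀ a b, P a = true → P b = true → P (a * b) = true)
    (hi : ∀ a, P a = true → P a⁻¹ = true) : Subgroup M where
  carrier := {g | g.right = 1 ∧ P g.left.1 = true ∧ P g.left.2 = true}
  one_mem' := ⟨rfl, h1, h1⟩
  mul_mem' := by
    rintro ⟨a, c⟩ ⟨b, d⟩ ⟨hc, ha, ha'⟩ ⟨hd, hb, hb'⟩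
    obtain rfl : c = 1 := hc
    obtain rfl : d = 1 := hd
    refine ⟨one_mul _, ?_, ?_⟩ <;> simp [SemidirectProduct.mul_left] <;> apply hm <;> assumption
  inv_mem' := by
    rintro ⟨a, c⟩ ⟨hc, ha, ha'⟩
    obtain rfl : c = 1 := hc
    refine ⟨inv_one, ?_, ?_⟩ <;> simp [SemidirectProduct.inv_left] <;> apply hi <;> assumption

def inA (d : D4) : Bool := d == 1 || d == r 2 || d == sr 0 || d == sr 2

def inB (d : D4) : Bool := d == 1 || d == r 2 || d == sr 1 || d == sr 3

def inZ (d : D4) : Bool := d == 1 || d == r 2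

/-- The elementary subgroup spanned by the first involution of either factor and the centres. -/
def MA : Subgroup M := baseSub inA (by decide +kernel) (by decide +kernel) (by decide +kernel)

/-- The elementary subgroup spanned by the second involution of either factor and the centres. -/
def MB : Subgroup M := baseSub inB (by decide +kernel) (by decide +kernel) (by decide +kernel)

/-- The centre of the base group. -/
def MZ : Subgroup M := baseSub inZ (by decide +kernel) (by decide +kernel) (by decide +kernel)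

instance (g : M) : Decidable (g ∈ MA) :=
  decidable_of_iff (g.right = 1 ∧ inA g.left.1 = true ∧ inA g.left.2 = true) Iff.rfl

instance (g : M) : Decidable (g ∈ MB) :=
  decidable_of_iff (g.right = 1 ∧ inB g.left.1 = true ∧ inB g.left.2 = true) Iff.rfl

instance (g : M) : Decidable (g ∈ MZ) :=
  decidable_of_iff (g.right = 1 ∧ inZ g.left.1 = true ∧ inZ g.left.2 = true) Iff.rfl

theorem elem_sets : ∀ v : M, v * v = 1 → (∀ g : M, v * (g * v * g⁻¹) = g * v * g⁻¹ * v) →
    v ∈ MA ∨ v ∈ MB := by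
  decide +kernel

theorem card_MA : Fintype.card {g : M // g ∈ MA} = 16 ∧ Fintype.card {g : M // g ∈ MB} = 16 ∧
    Fintype.card {g : M // g ∈ MZ} = 4 := by
  decide +kernel

theorem mem_sets :
    a1 ∈ MA ∧ a2 ∈ MA ∧ b1 ∈ MB ∧ b2 ∈ MB ∧ a1 ∉ MB ∧ b1 ∉ MA ∧ z1 ∈ MZ ∧ z2 ∈ MZ ∧ zz ∈ MZ := by
  decide +kernel

theorem mz_cases : ∀ g : M, g ∈ MZ ↔ g = 1 ∨ g = z1 ∨ g = z2 ∨ g = zz := by
  decide +kernel

theorem ab_inter : ∀ u : M, u ∈ MA → u ∈ MB → u ∈ MZ := by
  decide +kernel

theorem aset_normal : ∀ g : M, ∀ u : M, u ∈ MA → g * u * g⁻¹ ∈ MA := by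
  decide +kernel

theorem bset_normal : ∀ g : M, ∀ u : M, u ∈ MB → g * u * g⁻¹ ∈ MB := by
  decide +kernel

theorem aset_comm : ∀ u : M, u ∈ MA → u * u = 1 ∧ ∀ v : M, v ∈ MA → u * v = v * u := by
  decide +kernel

theorem bset_comm : ∀ u : M, u ∈ MB → u * u = 1 ∧ ∀ v : M, v ∈ MB → u * v = v * u := by
  decide +kernel

theorem conj_inner : ∀ g : M, g * z1 = z1 * g →
    (g * a1 * g⁻¹ = a1 ∨ g * a1 * g⁻¹ = a1 * z1) ∧ (g * b1 * g⁻¹ = b1 ∨ g * b1 * g⁻¹ = b1 * z1) ∧
    (g * a2 * g⁻¹ = a2 ∨ g * a2 * g⁻¹ = a2 * z2) ∧ (g * b2 * g⁻¹ = b2 ∨ g * b2 * g⁻¹ = b2 * z2) := by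
  decide +kernel

/-! ### The Sylow subgroups of the symmetric group of degree eight -/

theorem exists_equiv_sylow (T : Sylow 2 (Equiv.Perm (Fin 8))) :
    Nonempty (M ≃* ↥(T : Subgroup (Equiv.Perm (Fin 8)))) := by
  have : Fact (Nat.Prime 2) := ⟨Nat.prime_two⟩
  obtain ⟨f, hfx, hfy, hfu⟩ := exists_hom (X := Equiv.Perm (Fin 8))
    (Equiv.swap 0 1) (Equiv.swap 0 2 * Equiv.swap 1 3)
    (Equiv.swap 0 4 * Equiv.swap 1 5 * Equiv.swap 2 6 * Equiv.swap 3 7)
    (by decide +kernel) (by decide +kernel) (by decide +kernel) (by decide +kernel)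
    (by decide +kernel : Equiv.swap (0 : Fin 8) 1 * _ = _ * _)
    (by decide +kernel : _ * _ = _ * (Equiv.swap (0 : Fin 8) 2 * Equiv.swap 1 3))
    (by decide +kernel : Equiv.swap (0 : Fin 8) 1 * _ = _ * _)
  have hzz : f zz ≠ 1 := by
    have hz : zz = a1 * b1 * (a1 * b1) * (w * (a1 * b1 * (a1 * b1)) * w) := by decide +kernel
    rw [hz]
    simp only [map_mul, hfx, hfy, hfu]
    decide +kernel
  have hinj : Function.Injective f := by
    rw [← MonoidHom.ker_eq_bot_iff]
    by_contra hne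
    obtain ⟨g, hg, hg1, hgc⟩ := Perm.SectionalFour.exists_central
      (IsPGroup.of_card (n := 7) (by rw [card_M]; norm_num)) f.ker hne
    rcases center_M g ⟨(hgc a1).symm, (hgc b1).symm, (hgc w).symm⟩ with rfl | rfl
    · exact hg1 rfl
    · exact hzz hg
  have hcard : Nat.card f.range = 128 := by
    rw [← card_M]
    exact (Nat.card_congr (MonoidHom.ofInjective hinj).toEquiv).symm
  obtain ⟨Q, hQ⟩ := (IsPGroup.of_card (n := 7) (by rw [hcard]; norm_num) : IsPGroup 2 f.range).exists_le_sylow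
  have hfac : (Nat.card (Equiv.Perm (Fin 8))).factorization 2 = 7 := by
    rw [Nat.card_perm, Nat.card_eq_fintype_card, Fintype.card_fin,
      show Nat.factorial 8 = 2 ^ 7 * 315 by decide,
      Nat.factorization_mul (by norm_num) (by norm_num), Finsupp.add_apply,
      Nat.Prime.factorization_pow Nat.prime_two, Finsupp.single_eq_same,
      Nat.factorization_eq_zero_of_not_dvd (by norm_num)]
  have hQeq : f.range = (Q : Subgroup (Equiv.Perm (Fin 8))) :=
    Subgroup.eq_of_le_of_card_ge hQ (by rw [Q.card_eq_multiplicity, hfac, hcard]; norm_num)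
  exact ⟨((MonoidHom.ofInjective hinj).trans (MulEquiv.subgroupCongr hQeq)).trans (Q.equiv T)⟩

end Cfsg.Agent.Solv.DWr
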