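import Cfsg.Agent.Lib.Solv.DihedralWreath.Main

/-!
# The normalizer of the wreath product in a 2-group of sectional rank four
-/

set_option autoImplicit false
set_option linter.unusedSectionVars false

namespace Cfsg.Agent.Solv.DWr

open Cfsg.Agent.Perm.SectionalFour (exists_central)

variable {S : Type*} [Group S] [Finite S] {φ : M →* S}

theorem quad {X : Type*} [Group X] {g : X} (h : g * g = 1) (h' : X) (hh : h' * h' = 1) :
    (h' * g * h') * (h' * g * h') = 1 := by
  rw [show h' * g * h' * (h' * g * h') = h' * g * (h' * h') * g * h' by group, hh, mul_one,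
    mul_assoc h' g g, h, mul_one, hh]

/-- Surjecting the model onto a group given by the relations of the normalizer. -/
theorem exists_surj {X : Type*} [Group X] (a t u : X) (ha : a * a = 1) (ht : t * t = 1) (hu : u * u = 1)
    (htu : t * u = u * t) (haa : Commute a (u * a * u)) (hab : Commute a (u * (t * a * t) * u))
    (_h4 : (a * (t * a * t)) ^ 4 = 1)
    (hc : u * ((a * (t * a * t)) ^ 2) * u = (a * (t * a * t)) ^ 2) :
    ∃ f : M →* X, a ∈ f.range ∧ t ∈ f.range ∧ u ∈ f.range := by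
  have hconj : ∀ g : X, g * g = 1 → ∀ p q : X, g * (p * q) * g = (g * p * g) * (g * q * g) := fun g hg p q => by
    rw [show g * p * g * (g * q * g) = g * p * (g * g) * q * g by group, hg, mul_one, mul_assoc g p q]
  have hback : ∀ g : X, g * g = 1 → ∀ p : X, g * (g * p * g) * g = p := fun g hg p => by
    rw [show g * (g * p * g) * g = g * g * p * (g * g) by group, hg, one_mul, mul_one]
  obtain ⟨b, hb⟩ : ∃ b, b = t * a * t := ⟨_, rfl⟩
  obtain ⟨c, hcdef⟩ : ∃ c, c = u * a * u := ⟨_, rfl⟩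
  obtain ⟨d, hd⟩ : ∃ d, d = u * b * u := ⟨_, rfl⟩
  rw [← hb, ← hd] at hab
  rw [← hcdef] at haa
  rw [← hb] at hc
  have hbb : b * b = 1 := hb ▸ quad ha t ht
  have hcc : c * c = 1 := hcdef ▸ quad ha u hu
  have hdd : d * d = 1 := hd ▸ quad hbb u hu
  have htct : t * c * t = d := by
    calc t * c * t = (t * u) * a * (u * t) := by rw [hcdef]; group
      _ = (u * t) * a * (t * u) := by rw [← htu]
      _ = d := by rw [hd, hb]; group
  have htdt : t * d * t = c := by rw [← htct, hback t ht]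
  have htbt : t * b * t = a := by rw [hb, hback t ht]
  have hbc : Commute b c := by
    have h : u * (a * d) * u = u * (d * a) * u := by rw [hab.eq]
    rw [hconj u hu, hconj u hu, ← hcdef, hd, hback u hu] at h
    exact h.symm
  have hbd : Commute b d := by
    have h : t * (a * c) * t = t * (c * a) * t := by rw [haa.eq]
    rw [hconj t ht, hconj t ht, ← hb, htct] at h
    exact h
  obtain ⟨y, hy⟩ : ∃ y, y = b * c * t * u := ⟨_, rfl⟩
  have hcommtu : Commute t u := htu
  have hy1 : y * y = 1 := by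
    have : u * (b * c) * u = d * a := by
      rw [hconj u hu, ← hd, hcdef, hback u hu]
    have h2 : t * (d * a) * t = c * b := by rw [hconj t ht, htdt, ← hb]
    calc y * y = b * c * t * (u * (b * c) * u) * (t * (u * u)) := by
          rw [hy]
          calc b * c * t * u * (b * c * t * u) = b * c * t * u * (b * c) * (t * u) := by group
            _ = b * c * t * u * (b * c) * (u * t) := by rw [htu]
            _ = b * c * t * (u * (b * c) * u) * t := by group
            _ = _ := by rw [hu, mul_one]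
      _ = b * c * (t * (d * a) * t) := by rw [this, hu, mul_one]; group
      _ = b * (c * c) * b := by rw [h2]; group
      _ = 1 := by rw [hcc, mul_one, hbb]
  have hy' : y * d * y⁻¹ = b * a * b := by
    have h1 : u * d * u⁻¹ = b := by rw [inv_eq_of_mul_eq_one_left hu, hd, hback u hu]
    have h2 : t * b * t⁻¹ = a := by rw [inv_eq_of_mul_eq_one_left ht, htbt]
    calc y * d * y⁻¹ = b * c * (t * (u * d * u⁻¹) * t⁻¹) * (c⁻¹ * b⁻¹) := by rw [hy]; group
      _ = b * (c * a) * c * b := by rw [h1, h2, inv_eq_of_mul_eq_one_left hcc, inv_eq_of_mul_eq_one_left hbb]; group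
      _ = b * a * (c * c) * b := by rw [haa.eq.symm]; group
      _ = b * a * b := by rw [hcc, mul_one]
  have hxx : Commute u (d * u * d) := by
    have hbdd : b * d = d * b := hbd.eq
    show u * (d * u * d) = d * u * d * u
    calc u * (d * u * d) = (u * d * u) * d := by group
      _ = b * d := by rw [hd, hback u hu]
      _ = d * b := hbdd
      _ = d * (u * d * u) := by rw [hd, hback u hu, ← hd]
      _ = d * u * d * u := by group
  have hyy : Commute y (d * y * d) := by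
    have hyinv : y⁻¹ = y := inv_eq_of_mul_eq_one_left hy1
    have e : y * d * y = b * a * b := by rw [← hy']; rw [hyinv]
    have hbabd : Commute (b * a * b) d := (hbd.mul_left hab).mul_left hbd
    have hsq : (b * a * b) * (b * a * b) = 1 := quad ha b hbb
    show y * (d * y * d) = d * y * d * y
    calc y * (d * y * d) = (y * d * y) * d := by group
      _ = d * (y * d * y) := by rw [e]; exact hbabd.eq
      _ = d * y * d * y := by group
  have hxy : Commute u (d * y * d) := by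
    obtain ⟨q, hq⟩ : ∃ q, q = d * b * a * c := ⟨_, rfl⟩
    have h1 : d * y * d = q * t * u := by
      have hudu : u * d * u = b := by rw [hd, hback u hu]
      calc d * y * d = d * b * c * t * (u * d * u) * (u⁻¹) := by rw [hy]; group
        _ = d * b * c * (t * b * t) * (t⁻¹ * u⁻¹) := by rw [hudu]; group
        _ = d * b * (c * a) * (t * u) := by
          rw [htbt, inv_eq_of_mul_eq_one_left hu, inv_eq_of_mul_eq_one_left ht]; group
        _ = q * t * u := by rw [← haa.eq, hq]; group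
    have h2 : u * q * u = q := by
      rw [hq, hconj u hu, hconj u hu, hconj u hu, ← hd, hd, hback u hu, ← hd, ← hcdef, hcdef, hback u hu, ← hcdef,
        hbd.eq, mul_assoc, ← haa.eq, ← mul_assoc]
    show u * (d * y * d) = d * y * d * u
    rw [h1]
    calc u * (q * t * u) = (u * q * u) * (u⁻¹ * t * u) := by group
      _ = q * t := by rw [h2, show u⁻¹ * t * u = t by rw [mul_assoc, htu, inv_mul_cancel_left]]
      _ = q * t * (u * u) := by rw [hu, mul_one]
      _ = q * t * u * u := by group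
  have hxy4 : (u * y) ^ 4 = 1 := by
    have e1 : u * y = d * a * t := by
      calc u * y = (u * (b * c) * u) * (u⁻¹ * t * u) := by rw [hy]; group
        _ = d * a * t := by
          rw [show u⁻¹ * t * u = t by rw [mul_assoc, htu, inv_mul_cancel_left], hconj u hu, ← hd, hcdef, hback u hu]
    have e2 : (u * y) ^ 2 = (d * a) * (c * b) := by
      rw [e1, pow_two]
      calc d * a * t * (d * a * t) = d * a * (t * (d * a) * t) := by group
        _ = d * a * (c * b) := by rw [hconj t ht, htdt, ← hb]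
    have e3 : (d * a * (c * b)) * (d * a * (c * b)) = 1 := by
      have k1 : d * a * (c * b) = (d * c) * (a * b) := by
        calc d * a * (c * b) = d * (a * c) * b := by group
          _ = d * (c * a) * b := by rw [haa.eq]
          _ = (d * c) * (a * b) := by group
      have k2 : Commute (a * b) (d * c) := (hab.mul_right haa).mul_left (hbd.mul_right hbc)
      have k3 : (d * c) * (d * c) = ((a * b) ^ 2)⁻¹ := by
        have k4 : (c * d) * (c * d) = (a * b) ^ 2 := by
          rw [← hc, pow_two, hconj u hu, hconj u hu, ← hcdef, ← hd]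
        rw [← k4, mul_inv_rev, mul_inv_rev, inv_eq_of_mul_eq_one_left hcc, inv_eq_of_mul_eq_one_left hdd]
      rw [k1, k2.mul_mul_mul_comm, k3, ← pow_two, inv_mul_cancel]
    rw [show (4 : ℕ) = 2 * 2 from rfl, pow_mul, e2, pow_two, e3]
  obtain ⟨f, fa, fb, fw⟩ := exists_hom (X := X) u y d hu hy1 hdd hxy4 hxx hyy hxy
  have iu : u ∈ f.range := ⟨a1, fa⟩
  have id' : d ∈ f.range := ⟨w, fw⟩
  have iy : y ∈ f.range := ⟨b1, fb⟩
  have ib : b ∈ f.range := by
    rw [← hback u hu b, ← hd]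
    exact f.range.mul_mem (f.range.mul_mem iu id') iu
  have ict : c * t ∈ f.range := by
    have : c * t = b⁻¹ * y * u⁻¹ := by rw [hy]; group
    rw [this]
    exact f.range.mul_mem (f.range.mul_mem (f.range.inv_mem ib) iy) (f.range.inv_mem iu)
  have ic : c ∈ f.range := by
    have : c * t * d * (c * t)⁻¹ = c := by
      rw [mul_inv_rev, inv_eq_of_mul_eq_one_left ht, inv_eq_of_mul_eq_one_left hcc,
        show c * t * d * (t * c) = c * (t * d * t) * c by group, htdt, hcc, one_mul]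
    exact this ▸ f.range.mul_mem (f.range.mul_mem ict id') (f.range.inv_mem ict)
  refine ⟨f, ?_, ?_, iu⟩
  · have : u * c * u = a := by rw [hcdef, hback u hu]
    exact this ▸ f.range.mul_mem (f.range.mul_mem iu ic) iu
  · have : c * (c * t) = t := by rw [← mul_assoc, hcc, one_mul]
    exact this ▸ f.range.mul_mem ic ict

theorem exists_swap (h2 : IsPGroup 2 S) (hr : Cfsg.SectionalPRankLE 2 4 S) (hinj : Function.Injective φ)
    (hlt : φ.range ≠ ⊤) :
    ∃ (t : S) (c : M →* M), t ∈ Subgroup.normalizer (φ.range : Set S) ∧ t ∉ φ.range ∧ Function.Injective c ∧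
      (∀ g, t * φ g * t⁻¹ = φ (c g)) ∧ MA.map c = MB ∧ MB.map c = MA ∧ c z1 = z1 ∧ c z2 = z2 ∧
      (c a1 = b1 ∨ c a1 = b1 * z2) ∧ (c b1 = a1 ∨ c b1 = a1 * z2) ∧
      (c a2 = b2 ∨ c a2 = b2 * z1) ∧ (c b2 = a2 ∨ c b2 = a2 * z1) := by
  have : Group.IsNilpotent S := h2.isNilpotent
  obtain ⟨t, ht, htP⟩ := SetLike.exists_of_lt
    (Group.normalizerCondition_of_isNilpotent φ.range (lt_top_iff_ne_top.2 hlt))
  obtain ⟨hww, -⟩ := rel_conj
  have hwinv : w⁻¹ = w := inv_eq_of_mul_eq_one_left hww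
  have hN : ∀ g, φ g ∈ Subgroup.normalizer (φ.range : Set S) := fun g => Subgroup.le_normalizer ⟨g, rfl⟩
  obtain ⟨t, c, ht, htP, hci, hc, hA, hB, e1, e2⟩ : ∃ (t : S) (c : M →* M),
      t ∈ Subgroup.normalizer (φ.range : Set S) ∧ t ∉ φ.range ∧ Function.Injective c ∧
      (∀ g, t * φ g * t⁻¹ = φ (c g)) ∧ MA.map c = MB ∧ MB.map c = MA ∧ c z1 = z1 ∧ c z2 = z2 := by
    obtain ⟨c, hci, hc⟩ := exists_conj hinj ht
    have him := image_sets hci fun g => MonoidHom.mem_range.2 ((Finite.injective_iff_surjective.1 hci) g)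
    obtain ⟨hA, hB⟩ := him.resolve_left fun h => htP (mem_range_of_fix h2 hr hinj hci hc h.1).1
    rcases z_images h2 hr hinj hci hc him with ⟨e1, e2⟩ | ⟨e1, e2⟩
    · exact ⟨t, c, ht, htP, hci, hc, hA, hB, e1, e2⟩
    · have hci' : Function.Injective ((MulAut.conj w).toMonoidHom.comp c) := (MulAut.conj w).injective.comp hci
      refine ⟨φ w * t, _, Subgroup.mul_mem _ (hN w) ht, fun h => htP ((φ.range.mul_mem_cancel_left ⟨w, rfl⟩).1 h),
        hci', conj_w c hc, ?_, ?_, ?_, ?_⟩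
      · rw [← Subgroup.map_map, hA]
        refine Subgroup.eq_of_le_of_card_ge ?_ (by rw [Subgroup.card_map_of_injective (MulAut.conj w).injective])
        rintro _ ⟨u, hu, rfl⟩
        exact bset_normal w u hu
      · rw [← Subgroup.map_map, hB]
        refine Subgroup.eq_of_le_of_card_ge ?_ (by rw [Subgroup.card_map_of_injective (MulAut.conj w).injective])
        rintro _ ⟨u, hu, rfl⟩
        exact aset_normal w u hu
      · show w * c z1 * w⁻¹ = z1; rw [e1, hwinv]; exact w_z.2.2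
      · show w * c z2 * w⁻¹ = z2; rw [e2, hwinv]; exact w_z.2.1
  rcases image_gens e1 e2 (Or.inr ⟨hA, hB⟩) with ⟨hA', -⟩ | ⟨-, ⟨v1, nv1, f3⟩, ⟨v2, nv2, f4⟩, ⟨u1, nu1, f1⟩, ⟨u2, nu2, f2⟩⟩
  · exact absurd (hA.symm.trans hA') fun h => mem_sets.2.2.2.2.1 (h.symm ▸ mem_sets.1)
  obtain ⟨x, hx, hxa2, hxb2, hxb1, hxa1⟩ := adjust_one u1 nu1 v1 nv1
  obtain ⟨y, hy, hya1, hyb1, hyb2, hya2⟩ := adjust_two u2 nu2 v2 nv2
  obtain ⟨mz1, mz2⟩ : z1 ∈ MZ ∧ z2 ∈ MZ := ⟨mem_sets.2.2.2.2.2.2.1, mem_sets.2.2.2.2.2.2.2.1⟩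
  have hfix : ∀ e : M, e ∈ MBase → ∀ u : M, u ∈ MZ → e * u * e⁻¹ = u := fun e he u hu => by
    rw [← zset_central u hu e he, mul_inv_cancel_right]
  have hyx : ∀ g : M, (y * x) * g * (y * x)⁻¹ = y * (x * g * x⁻¹) * y⁻¹ := fun g => by group
  have hbase : y * x ∈ MBase := MBase.mul_mem hy hx
  have hyfix : ∀ g u : M, y * g = g * y → u ∈ MZ → y * (g * u) * y⁻¹ = g * u := fun g u hg hu => by
    rw [show y * (g * u) * y⁻¹ = (y * g) * y⁻¹ * (y * u * y⁻¹) by group, hg, mul_inv_cancel_right, hfix y hy u hu]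
  have hxfix : ∀ g u : M, x * g = g * x → u ∈ MZ → x * (g * u) * x⁻¹ = g * u := fun g u hg hu => by
    rw [show x * (g * u) * x⁻¹ = (x * g) * x⁻¹ * (x * u * x⁻¹) by group, hg, mul_inv_cancel_right, hfix x hx u hu]
  have hyfix' : ∀ g : M, y * g = g * y → y * g * y⁻¹ = g := fun g hg => by rw [hg, mul_inv_cancel_right]
  refine ⟨φ (y * x) * t, (MulAut.conj (y * x)).toMonoidHom.comp c, Subgroup.mul_mem _ (hN _) ht,
    fun h => htP ((φ.range.mul_mem_cancel_left ⟨_, rfl⟩).1 h), (MulAut.conj _).injective.comp hci, fun g => ?_,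
    ?_, ?_, ?_, ?_, ?_, ?_, ?_, ?_⟩
  · show _ = φ ((y * x) * c g * (y * x)⁻¹)
    simp only [map_mul, map_inv, ← hc]
    group
  · rw [← Subgroup.map_map, hA]
    refine Subgroup.eq_of_le_of_card_ge ?_ (by rw [Subgroup.card_map_of_injective (MulAut.conj _).injective])
    rintro _ ⟨u, hu, rfl⟩
    exact bset_normal _ u hu
  · rw [← Subgroup.map_map, hB]
    refine Subgroup.eq_of_le_of_card_ge ?_ (by rw [Subgroup.card_map_of_injective (MulAut.conj _).injective])
    rintro _ ⟨u, hu, rfl⟩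
    exact aset_normal _ u hu
  · show (y * x) * c z1 * (y * x)⁻¹ = z1; rw [e1]; exact hfix _ hbase _ mz1
  · show (y * x) * c z2 * (y * x)⁻¹ = z2; rw [e2]; exact hfix _ hbase _ mz2
  · show (y * x) * c a1 * (y * x)⁻¹ = b1 ∨ (y * x) * c a1 * (y * x)⁻¹ = b1 * z2
    rw [hyx, f1]
    rcases hxb1 with e | e <;> rw [e]
    · exact Or.inl (hyfix' _ hyb1)
    · exact Or.inr (hyfix _ _ hyb1 mz2)
  · show (y * x) * c b1 * (y * x)⁻¹ = a1 ∨ (y * x) * c b1 * (y * x)⁻¹ = a1 * z2
    rw [hyx, f3]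
    rcases hxa1 with e | e <;> rw [e]
    · exact Or.inl (hyfix' _ hya1)
    · exact Or.inr (hyfix _ _ hya1 mz2)
  · show (y * x) * c a2 * (y * x)⁻¹ = b2 ∨ (y * x) * c a2 * (y * x)⁻¹ = b2 * z1
    rw [hyx, f2, hxfix _ _ hxb2 nu2]
    exact hyb2
  · show (y * x) * c b2 * (y * x)⁻¹ = a2 ∨ (y * x) * c b2 * (y * x)⁻¹ = a2 * z1
    rw [hyx, f4, hxfix _ _ hxa2 nv2]
    exact hya2

/-- The normalizer of the wreath product modulo the centre is again the wreath product. -/
theorem normalizer_facts (h2 : IsPGroup 2 S) (hr : Cfsg.SectionalPRankLE 2 4 S) (hinj : Function.Injective φ)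
    (hlt : φ.range ≠ ⊤) :
    φ.range.relIndex (Subgroup.normalizer (φ.range : Set S)) = 2 ∧
      ∃ _ : ((Subgroup.center S).subgroupOf (Subgroup.normalizer (φ.range : Set S))).Normal,
        Nonempty (M ≃* ↥(Subgroup.normalizer (φ.range : Set S)) ⧸
          (Subgroup.center S).subgroupOf (Subgroup.normalizer (φ.range : Set S))) := by
  obtain ⟨t, c, ht, htP, hci, hc, hA, hB, e1, e2, q1, r1, q2, r2⟩ := exists_swap h2 hr hinj hlt
  obtain ⟨hcz, -, hzcard⟩ := center_eq h2 hr hinj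
  obtain ⟨hww, hwa, hwb, -⟩ := rel_conj
  have hwinv : w⁻¹ = w := inv_eq_of_mul_eq_one_left hww
  have hφw : (φ w)⁻¹ = φ w := by rw [← map_inv, hwinv]
  have htwo : ∀ g, g ∈ Subgroup.normalizer (φ.range : Set S) → g ∉ φ.range → g * t ∈ φ.range := by
    intro g hg hgP
    obtain ⟨c', hci', hc'⟩ := exists_conj hinj hg
    have him := image_sets hci' fun x => MonoidHom.mem_range.2 ((Finite.injective_iff_surjective.1 hci') x)
    obtain ⟨-, hB'⟩ := him.resolve_left fun h => hgP (mem_range_of_fix h2 hr hinj hci' hc' h.1).1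
    refine (mem_range_of_fix h2 hr hinj (c := c'.comp c) (hci'.comp hci) (fun x => ?_) ?_).1
    · show _ = φ (c' (c x))
      rw [← hc', ← hc]; group
    · rw [← Subgroup.map_map, hA, hB']
  have hrel : φ.range.relIndex (Subgroup.normalizer (φ.range : Set S)) = 2 := by
    rw [Subgroup.relIndex, Subgroup.index_eq_two_iff]
    refine ⟨⟨t, ht⟩, fun b => ?_⟩
    by_cases hb : (b : S) ∈ φ.range
    · exact Or.inr ⟨hb, fun h => htP ((φ.range.mul_mem_cancel_left hb).1 h)⟩
    · exact Or.inl ⟨htwo b b.2 hb, hb⟩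
  refine ⟨hrel, ?_⟩
  -- the square of `t` is central
  have ht2 : ∃ h ∈ MZ, t * t = φ h := by
    obtain ⟨h, hh, hht⟩ := (mem_range_of_fix h2 hr hinj (c := c.comp c) (hci.comp hci) (t := t * t)
      (fun x => by show _ = φ (c (c x)); rw [← hc, ← hc]; group)
      (by rw [← Subgroup.map_map, hA, hB])).2 (by show c (c z1) = z1; rw [e1, e1])
    refine ⟨h, ?_, hht.symm⟩
    have hcc : ∀ g, h * g * h⁻¹ = c (c g) := fun g => hinj (by
      rw [map_mul, map_mul, map_inv, hht, ← hc, ← hc]; group)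
    obtain ⟨k1, k2, k3, k4⟩ := conj_inner h (((base_facts h hh).2.1).1)
    have hcu1 : ∀ u : M, u = 1 ∨ u = z2 → c u = u := by rintro u (rfl | rfl); exacts [c.map_one, e2]
    have hcu2 : ∀ u : M, u = 1 ∨ u = z1 → c u = u := by rintro u (rfl | rfl); exacts [c.map_one, e1]
    obtain ⟨u1, hu1, fu1⟩ : ∃ u : M, (u = 1 ∨ u = z2) ∧ c a1 = b1 * u :=
      q1.elim (fun e => ⟨1, Or.inl rfl, by rw [e, mul_one]⟩) (fun e => ⟨z2, Or.inr rfl, e⟩)
    obtain ⟨v1, hv1, fv1⟩ : ∃ u : M, (u = 1 ∨ u = z2) ∧ c b1 = a1 * u :=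
      r1.elim (fun e => ⟨1, Or.inl rfl, by rw [e, mul_one]⟩) (fun e => ⟨z2, Or.inr rfl, e⟩)
    obtain ⟨u2, hu2, fu2⟩ : ∃ u : M, (u = 1 ∨ u = z1) ∧ c a2 = b2 * u :=
      q2.elim (fun e => ⟨1, Or.inl rfl, by rw [e, mul_one]⟩) (fun e => ⟨z1, Or.inr rfl, e⟩)
    obtain ⟨v2, hv2, fv2⟩ : ∃ u : M, (u = 1 ∨ u = z1) ∧ c b2 = a2 * u :=
      r2.elim (fun e => ⟨1, Or.inl rfl, by rw [e, mul_one]⟩) (fun e => ⟨z1, Or.inr rfl, e⟩)
    rw [hcc, fu1, map_mul, fv1, hcu1 u1 hu1, mul_assoc] at k1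
    rw [hcc, fv1, map_mul, fu1, hcu1 v1 hv1, mul_assoc] at k2
    rw [hcc, fu2, map_mul, fv2, hcu2 u2 hu2, mul_assoc] at k3
    rw [hcc, fv2, map_mul, fu2, hcu2 v2 hv2, mul_assoc] at k4
    have p1 := apart_one v1 hv1 u1 hu1 a1 (Or.inl rfl) k1
    have p2 := apart_two v2 hv2 u2 hu2 a2 (Or.inl rfl) k3
    have hs1 : u1 * u1 = 1 := by rcases hu1 with rfl | rfl; exacts [one_mul _, rel_z.2.2.2.2]
    have hs2 : u2 * u2 = 1 := by rcases hu2 with rfl | rfl; exacts [one_mul _, rel_z.2.2.2.1]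
    have cm : ∀ g, c (c g) = g → h * g = g * h := fun g hg => mul_inv_eq_iff_eq_mul.1 ((hcc g).trans hg)
    refine base_center h hh (cm _ ?_) (cm _ ?_) (cm _ ?_) (cm _ ?_)
    · rw [fu1, map_mul, fv1, hcu1 u1 hu1, mul_assoc, p1, hs1, mul_one]
    · rw [fv1, map_mul, fu1, hcu1 v1 hv1, mul_assoc, p1, hs1, mul_one]
    · rw [fu2, map_mul, fv2, hcu2 u2 hu2, mul_assoc, p2, hs2, mul_one]
    · rw [fv2, map_mul, fu2, hcu2 v2 hv2, mul_assoc, p2, hs2, mul_one]
  -- `t` commutes with the swapping involution modulo the centre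
  have htw : ∃ g ∈ MZ, φ w * t * φ w = φ g * t := by
    obtain ⟨g, hg, hgt⟩ : φ w * t * φ w * t⁻¹ ∈ MBase.map φ := by
      have hrmem : φ w * t * φ w * t⁻¹ ∈ φ.range := by
        rw [show φ w * t * φ w * t⁻¹ = φ w * (t * φ w * t⁻¹) by group, hc w]
        exact φ.range.mul_mem ⟨w, rfl⟩ ⟨_, rfl⟩
      obtain ⟨r, hr'⟩ := hrmem
      have : r ∈ MBase := fix_z1_base r (hinj (by
        rw [map_mul, map_mul, hr']
        have h1 : φ w * φ z2 * φ w = φ z1 := by rw [← map_mul, ← map_mul, w_z.2.2]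
        have h2' : t⁻¹ * φ z1 * t = φ z1 := by
          have := hc z1; rw [e1] at this
          calc t⁻¹ * φ z1 * t = t⁻¹ * (t * φ z1 * t⁻¹) * t := by rw [this]
            _ = φ z1 := by group
        have h3 : φ w * φ z1 * φ w = φ z2 := by rw [← map_mul, ← map_mul, w_z.2.1]
        have h4 : t * φ z2 * t⁻¹ = φ z2 := by rw [hc, e2]
        calc φ w * t * φ w * t⁻¹ * φ z1 = φ w * t * φ w * (t⁻¹ * φ z1 * t) * t⁻¹ := by group
          _ = φ w * t * (φ w * φ z1 * φ w) * (φ w)⁻¹ * t⁻¹ := by rw [h2']; group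
          _ = φ w * (t * φ z2 * t⁻¹) * t * φ w * t⁻¹ := by rw [h3, hφw]; group
          _ = φ w * φ z2 * φ w * (φ w)⁻¹ * t * φ w * t⁻¹ := by rw [h4]; group
          _ = φ z1 * (φ w * t * φ w * t⁻¹) := by rw [h1, hφw]; group))
      exact ⟨r, this, hr'⟩
    refine ⟨g, ?_, by rw [hgt]; group⟩
    have hconj : ∀ x : M, g * c x * g⁻¹ = w * c (w * x * w) * w := fun x => hinj (by
      rw [map_mul, map_mul, map_inv, hgt, map_mul, map_mul, ← hc, ← hc, map_mul, map_mul, mul_inv_rev, mul_inv_rev,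
        mul_inv_rev, inv_inv, hφw]
      group)
    have hwconj : ∀ x y : M, w * (x * y) * w = (w * x * w) * (w * y * w) := fun x y => by
      rw [show w * x * w * (w * y * w) = w * x * (w * w) * y * w by group, hww, mul_one, mul_assoc w x y]
    have hw2a : w * a2 * w = a1 := by
      rw [← hwa, show w * (w * a1 * w) * w = (w * w) * a1 * (w * w) by group, hww, one_mul, mul_one]
    have hw2b : w * b2 * w = b1 := by
      rw [← hwb, show w * (w * b1 * w) * w = (w * w) * b1 * (w * w) by group, hww, one_mul, mul_one]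
    have hswap1 : ∀ u : M, u = 1 ∨ u = z1 → (w * u * w = 1 ∨ w * u * w = z2) := by
      rintro u (rfl | rfl); exacts [Or.inl w_z.1, Or.inr w_z.2.1]
    have hswap2 : ∀ u : M, u = 1 ∨ u = z2 → (w * u * w = 1 ∨ w * u * w = z1) := by
      rintro u (rfl | rfl); exacts [Or.inl w_z.1, Or.inr w_z.2.2]
    have hz1b : g * z1 = z1 * g := ((base_facts g hg).2.1).1
    obtain ⟨k1, k2, k3, k4⟩ := conj_inner g hz1b
    have hsq : ∀ u : M, (u = 1 ∨ u = z1 ∨ u = z2) → u * u = 1 := by
      rintro u (rfl | rfl | rfl); exacts [one_mul _, rel_z.2.2.2.1, rel_z.2.2.2.2]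
    have main : ∀ b a' z u u' : M, (∀ x : M, x = 1 ∨ x = z → x ∈ MZ) → g * b * g⁻¹ = b ∨ g * b * g⁻¹ = b * a' →
        (u = 1 ∨ u = z) → (u' = 1 ∨ u' = z) → g * (b * u) * g⁻¹ = b * u' →
        ((∀ v : M, v = 1 ∨ v = z → v * v = 1) → (b * (u' * u) = b ∨ b * (u' * u) = b * a')) := by
      intro b a' z u u' hzm hor hu hu' he hsq'
      have hgb : g * b * g⁻¹ = b * (u' * u) := by
        have h1 : g * u * g⁻¹ = u := by
          rw [← zset_central u (hzm u hu) g hg, mul_inv_cancel_right]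
        calc g * b * g⁻¹ = (g * (b * u) * g⁻¹) * (g * u * g⁻¹)⁻¹ := by group
          _ = b * (u' * u) := by rw [he, h1, inv_eq_of_mul_eq_one_left (hsq' u hu), mul_assoc]
      rwa [hgb] at hor
    obtain ⟨u1, hu1, fu1⟩ : ∃ u : M, (u = 1 ∨ u = z2) ∧ c a1 = b1 * u :=
      q1.elim (fun e => ⟨1, Or.inl rfl, by rw [e, mul_one]⟩) (fun e => ⟨z2, Or.inr rfl, e⟩)
    obtain ⟨v1, hv1, fv1⟩ : ∃ u : M, (u = 1 ∨ u = z2) ∧ c b1 = a1 * u :=
      r1.elim (fun e => ⟨1, Or.inl rfl, by rw [e, mul_one]⟩) (fun e => ⟨z2, Or.inr rfl, e⟩)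
    obtain ⟨u2, hu2, fu2⟩ : ∃ u : M, (u = 1 ∨ u = z1) ∧ c a2 = b2 * u :=
      q2.elim (fun e => ⟨1, Or.inl rfl, by rw [e, mul_one]⟩) (fun e => ⟨z1, Or.inr rfl, e⟩)
    obtain ⟨v2, hv2, fv2⟩ : ∃ u : M, (u = 1 ∨ u = z1) ∧ c b2 = a2 * u :=
      r2.elim (fun e => ⟨1, Or.inl rfl, by rw [e, mul_one]⟩) (fun e => ⟨z1, Or.inr rfl, e⟩)
    have m2 : ∀ x : M, x = 1 ∨ x = z2 → x ∈ MZ := by
      rintro x (rfl | rfl); exacts [one_mem _, mem_sets.2.2.2.2.2.2.2.1]
    have m1 : ∀ x : M, x = 1 ∨ x = z1 → x ∈ MZ := by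
      rintro x (rfl | rfl); exacts [one_mem _, mem_sets.2.2.2.2.2.2.1]
    have s2 : ∀ v : M, v = 1 ∨ v = z2 → v * v = 1 := fun v hv => hsq v (hv.imp id Or.inr)
    have s1 : ∀ v : M, v = 1 ∨ v = z1 → v * v = 1 := fun v hv => hsq v (hv.imp id Or.inl)
    have g1 : g * (b1 * u1) * g⁻¹ = b1 * (w * u2 * w) := by
      rw [← fu1, hconj, hwa, fu2, hwconj, hw2b]
    have g2 : g * (a1 * v1) * g⁻¹ = a1 * (w * v2 * w) := by
      rw [← fv1, hconj, hwb, fv2, hwconj, hw2a]
    have g3 : g * (b2 * u2) * g⁻¹ = b2 * (w * u1 * w) := by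
      rw [← fu2, hconj, hw2a, fu1, hwconj, hwb]
    have g4 : g * (a2 * v2) * g⁻¹ = a2 * (w * v1 * w) := by
      rw [← fv2, hconj, hw2b, fv1, hwconj, hwa]
    have p1 := apart_one _ (hswap1 u2 hu2) u1 hu1 b1 (Or.inr rfl) (main b1 z1 z2 u1 _ m2 k2 hu1 (hswap1 u2 hu2) g1 s2)
    have p2 := apart_one _ (hswap1 v2 hv2) v1 hv1 a1 (Or.inl rfl) (main a1 z1 z2 v1 _ m2 k1 hv1 (hswap1 v2 hv2) g2 s2)
    have p3 := apart_two _ (hswap2 u1 hu1) u2 hu2 b2 (Or.inr rfl) (main b2 z2 z1 u2 _ m1 k4 hu2 (hswap2 u1 hu1) g3 s1)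
    have p4 := apart_two _ (hswap2 v1 hv1) v2 hv2 a2 (Or.inl rfl) (main a2 z2 z1 v2 _ m1 k3 hv2 (hswap2 v1 hv1) g4 s1)
    have cm : ∀ b u : M, u ∈ MZ → g * (b * u) * g⁻¹ = b * u → g * b = b * g := fun b u hu he => by
      have h1 : g * u * g⁻¹ = u := by rw [← zset_central u hu g hg, mul_inv_cancel_right]
      refine mul_inv_eq_iff_eq_mul.1 ?_
      calc g * b * g⁻¹ = (g * (b * u) * g⁻¹) * (g * u * g⁻¹)⁻¹ := by group
        _ = b := by rw [he, h1, mul_inv_cancel_right]
    exact base_center g hg (cm a1 v1 (m2 v1 hv1) (by rw [g2, p2])) (cm b1 u1 (m2 u1 hu1) (by rw [g1, p1]))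
      (cm a2 v2 (m1 v2 hv2) (by rw [g4, p4])) (cm b2 u2 (m1 u2 hu2) (by rw [g3, p3]))
  obtain ⟨h, hh, ht2⟩ := ht2
  obtain ⟨g, hg, htw⟩ := htw
  have hφcomm : ∀ u ∈ MZ, t * φ u = φ u * t := fun u hu =>
    mul_inv_eq_iff_eq_mul.1 (fix_z (by rw [hc, e1]) (by rw [hc, e2]) u hu)
  have hφww : φ w * φ w = 1 := by rw [← map_mul, hww, map_one]
  have hwtw : φ w * (φ w * t * φ w) * φ w = t := by
    rw [show φ w * (φ w * t * φ w) * φ w = (φ w * φ w) * t * (φ w * φ w) by group, hφww, one_mul, mul_one]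
  have hg' : g = 1 ∨ g = zz := by
    refine w_fixed g hg (hinj ?_)
    rw [map_one]
    refine mul_right_cancel (b := t) ?_
    rw [one_mul]
    calc φ (w * g * w * g) * t = φ w * φ g * φ w * (φ g * t) := by simp only [map_mul]; group
      _ = φ w * φ g * φ w * (φ w * t * φ w) := by rw [htw]
      _ = φ w * φ g * (φ w * φ w) * t * φ w := by group
      _ = φ w * (φ g * t) * φ w := by rw [hφww, mul_one]; group
      _ = t := by rw [← htw]; exact hwtw
  have hh' : h = 1 ∨ h = zz := by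
    refine w_fixed' h hh (hinj ?_)
    have hgg : g * g = 1 := (zset_le g hg).2.2.2
    calc φ (w * h * w) = φ w * (t * t) * φ w := by rw [map_mul, map_mul, ht2]
      _ = (φ w * t * φ w) * (φ w * t * φ w) := by
        rw [show φ w * t * φ w * (φ w * t * φ w) = φ w * t * (φ w * φ w) * t * φ w by group, hφww, mul_one]; group
      _ = φ g * t * (φ g * t) := by rw [htw]
      _ = φ g * φ g * (t * t) := by
        rw [show φ g * t * (φ g * t) = φ g * (t * φ g) * t by group, hφcomm g hg]; group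
      _ = φ h := by rw [← map_mul, hgg, map_one, one_mul, ht2]
  -- the quotient
  let N : Subgroup S := Subgroup.normalizer (φ.range : Set S)
  let Z : Subgroup ↥N := (Subgroup.center S).subgroupOf N
  have hZn : Z.Normal := ⟨fun x hx y => by
    have hx' : (x : S) ∈ Subgroup.center S := Subgroup.mem_subgroupOf.1 hx
    have hxy : y * x * y⁻¹ = x := Subtype.ext (by
      show (y : S) * x * (y : S)⁻¹ = x
      rw [Subgroup.mem_center_iff.1 hx' y, mul_inv_cancel_right])
    rwa [hxy]⟩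
  refine ⟨hZn, ?_⟩
  let ι : M →* ↥N := φ.codRestrict N fun g => Subgroup.le_normalizer ⟨g, rfl⟩
  let π : M →* ↥N ⧸ Z := (QuotientGroup.mk' Z).comp ι
  let T : ↥N ⧸ Z := QuotientGroup.mk' Z ⟨t, ht⟩
  have hZ : ∀ x : M, x = 1 ∨ x = zz → φ x ∈ Subgroup.center S := by
    rintro x (rfl | rfl)
    · rw [map_one]; exact one_mem _
    · rw [hcz]; exact Subgroup.mem_zpowers _
  have hzero : ∀ x : M, x = 1 ∨ x = zz → π x = 1 := fun x hx => (QuotientGroup.eq_one_iff _).2 (hZ x hx)
  have hT : T * T = 1 := by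
    refine (QuotientGroup.eq_one_iff _).2 (Subgroup.mem_subgroupOf.2 ?_)
    show t * t ∈ _
    rw [ht2]; exact hZ h hh'
  have hTinv : T⁻¹ = T := inv_eq_of_mul_eq_one_left hT
  have hU : π w * π w = 1 := by rw [← map_mul, hww, map_one]
  have hTW : T * π w = π w * T := by
    have h1 : π w * T * π w = π g * T := by
      show QuotientGroup.mk' Z (ι w * ⟨t, ht⟩ * ι w) = QuotientGroup.mk' Z (ι g * ⟨t, ht⟩)
      exact congrArg _ (Subtype.ext htw)
    rw [hzero g hg', one_mul] at h1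
    calc T * π w = π w * T * (π w * π w) := by rw [← mul_assoc, h1]
      _ = π w * T := by rw [hU, mul_one]
  have hTconj : ∀ x, T * π x * T = π (c x) := by
    intro x
    nth_rw 2 [← hTinv]
    show QuotientGroup.mk' Z (⟨t, ht⟩ * ι x * ⟨t, ht⟩⁻¹) = QuotientGroup.mk' Z (ι (c x))
    exact congrArg _ (Subtype.ext (hc x))
  obtain ⟨u1, hu1, fu1⟩ : ∃ u : M, (u = 1 ∨ u = z2) ∧ c a1 = b1 * u :=
    q1.elim (fun e => ⟨1, Or.inl rfl, by rw [e, mul_one]⟩) (fun e => ⟨z2, Or.inr rfl, e⟩)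
  obtain ⟨k1, k2⟩ := quot_facts u1 hu1
  obtain ⟨sa1, -, -, -⟩ := rel_sq
  obtain ⟨caa, -, -, -⟩ := rel_comm
  obtain ⟨-, -, hprod, hz1sq, -⟩ := rel_z
  obtain ⟨f, fa, ft, fu⟩ := exists_surj (π a1) T (π w) (by rw [← map_mul, sa1, map_one]) hT hU hTW
    (by rw [← map_mul, ← map_mul, hwa]
        show π a1 * π a2 = π a2 * π a1
        rw [← map_mul, ← map_mul, caa])
    (by rw [hTconj, fu1]
        show π a1 * (π w * π (b1 * u1) * π w) = π w * π (b1 * u1) * π w * π a1
        simp only [← map_mul, k2])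
    (by rw [hTconj, fu1, ← map_mul, ← map_pow, pow_succ, pow_succ, pow_succ, pow_one, mul_assoc, k1, hz1sq, map_one])
    (by rw [hTconj, fu1, ← map_mul, ← map_pow, pow_two, k1, ← map_mul, ← map_mul]
        have hw12 : w * z1 * w = z1 * zz := by
          rw [w_z.2.1, ← hprod, ← mul_assoc, hz1sq, one_mul]
        rw [hw12, map_mul, hzero zz (Or.inr rfl), mul_one])
  have fb : π b1 ∈ f.range := by
    have hcz' : c z2 = z2 := e2
    have hb : π (b1 * u1) ∈ f.range := by
      rw [← fu1, ← hTconj]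
      exact f.range.mul_mem (f.range.mul_mem ft fa) ft
    have hz1 : π z1 ∈ f.range := by
      rw [← k1, map_mul, map_mul]
      exact f.range.mul_mem (f.range.mul_mem fa hb) (f.range.mul_mem fa hb)
    have hz2 : π z2 ∈ f.range := by
      rw [← w_z.2.1, map_mul, map_mul]
      exact f.range.mul_mem (f.range.mul_mem fu hz1) fu
    have hu1' : π u1 ∈ f.range := by
      rcases hu1 with rfl | rfl
      · rw [map_one]; exact one_mem _
      · exact hz2
    rw [map_mul] at hb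
    exact (f.range.mul_mem_cancel_right hu1').1 hb
  have hsurj : Function.Surjective f := by
    intro q
    obtain ⟨⟨x, hx⟩, rfl⟩ := QuotientGroup.mk'_surjective Z q
    have hπ : ∀ m, π m ∈ f.range := fun m => by
      have := eq_top_of_gens (f.range.comap π) fa fb fu
      exact (show m ∈ f.range.comap π by rw [this]; trivial)
    by_cases hxP : x ∈ φ.range
    · obtain ⟨m, rfl⟩ := hxP
      exact hπ m
    · obtain ⟨m, hm⟩ := htwo x hx hxP
      have hxe : QuotientGroup.mk' Z ⟨x, hx⟩ = π m * T⁻¹ := by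
        show _ = QuotientGroup.mk' Z (ι m * ⟨t, ht⟩⁻¹)
        exact congrArg _ (Subtype.ext (show x = φ m * t⁻¹ by rw [hm, mul_inv_cancel_right]))
      rw [hxe]
      exact f.range.mul_mem (hπ m) (f.range.inv_mem ft)
  have hcard : Nat.card (↥N ⧸ Z) = 128 := by
    have h1 : Nat.card ↥N = 256 := by
      have := (φ.range.subgroupOf N).card_mul_index
      rw [Nat.card_congr (Subgroup.subgroupOfEquivOfLe Subgroup.le_normalizer).toEquiv,
        show (φ.range.subgroupOf N).index = 2 from hrel, ← Nat.card_congr (MonoidHom.ofInjective hinj).toEquiv,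
        card_M] at this
      exact this.symm
    have h2' := Z.card_eq_card_quotient_mul_card_subgroup
    have hZle : Subgroup.center S ≤ N := fun x hx => Subgroup.mem_normalizer_iff.2 fun y => by
      rw [Subgroup.mem_center_iff.1 hx y |>.symm, mul_inv_cancel_right]
    rw [h1, Nat.card_congr (Subgroup.subgroupOfEquivOfLe hZle).toEquiv, hcz, hzcard] at h2'
    omega
  exact ⟨MulEquiv.ofBijective f ((Nat.bijective_iff_surjective_and_card f).2 ⟨hsurj, by rw [card_M, hcard]⟩)⟩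

/-- A normal elementary subgroup of order sixteen has the wreath product as its normalizer. -/
theorem normalizer_four_gen (h2 : IsPGroup 2 S) (hr : Cfsg.SectionalPRankLE 2 4 S) (hinj : Function.Injective φ)
    {V : Subgroup S} (hV : V ≤ φ.range) (hn : ∀ g ∈ φ.range, ∀ v ∈ V, g * v * g⁻¹ ∈ V)
    (hc : ∀ u ∈ V, ∀ v ∈ V, u * v = v * u) (hsq : ∀ v ∈ V, v * v = 1) (hcard : Nat.card ↥V = 16) :
    Subgroup.normalizer (V : Set S) = φ.range := by
  have hle : φ.range ≤ Subgroup.normalizer (V : Set S) := fun g hg => Subgroup.mem_normalizer_iff.2 fun v =>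
    ⟨hn g hg v, fun h => by
      have := hn g⁻¹ (φ.range.inv_mem hg) _ h
      rwa [show g⁻¹ * (g * v * g⁻¹) * g⁻¹⁻¹ = v by group] at this⟩
  refine le_antisymm ?_ hle
  by_contra hnot
  have : Group.IsNilpotent S := h2.isNilpotent
  let H : Subgroup S := Subgroup.normalizer (V : Set S)
  have : Group.IsNilpotent ↥H := (h2.to_subgroup H).isNilpotent
  have hne : φ.range.subgroupOf H ≠ ⊤ := fun h => hnot (Subgroup.subgroupOf_eq_top.1 h)
  obtain ⟨⟨x, hxH⟩, hx, hxP⟩ := SetLike.exists_of_lt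
    (Group.normalizerCondition_of_isNilpotent _ (lt_top_iff_ne_top.2 hne))
  have hxN : x ∈ Subgroup.normalizer (φ.range : Set S) := by
    refine Subgroup.mem_normalizer_iff.2 fun y => ?_
    have key := Subgroup.mem_normalizer_iff.1 hx
    constructor
    · intro hy
      exact (key ⟨y, hle hy⟩).1 hy
    · intro hy
      have hyH : y ∈ H := by
        have h1 := H.mul_mem (H.mul_mem (H.inv_mem hxH) (hle hy)) hxH
        rwa [show x⁻¹ * (x * y * x⁻¹) * x = y by group] at h1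
      exact (key ⟨y, hyH⟩).2 hy
  obtain ⟨c, hci, hc'⟩ := exists_conj hinj hxN
  have him := image_sets hci fun g => MonoidHom.mem_range.2 ((Finite.injective_iff_surjective.1 hci) g)
  have hfix : ∀ v, v ∈ V ↔ x * v * x⁻¹ ∈ V := Subgroup.mem_normalizer_iff.1 hxH
  rcases him with ⟨hA, -⟩ | ⟨hA, hB⟩
  · exact hxP (mem_range_of_fix h2 hr hinj hci hc' hA).1
  · have hno : ∀ Y Y' : Subgroup M, Y.map c = Y' → V = Y.map φ → V = Y'.map φ := by
      intro Y Y' hY hVY
      refine le_antisymm ?_ ?_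
      · refine le_of_eq (Subgroup.eq_of_le_of_card_ge ?_ ?_).symm
        · rw [← hY]
          rintro _ ⟨_, ⟨u, hu, rfl⟩, rfl⟩
          rw [← hc']
          exact (hfix _).1 (hVY ▸ Subgroup.mem_map_of_mem φ hu)
        · rw [hVY, card_subtype_map hinj, card_subtype_map hinj, ← hY, Subgroup.card_map_of_injective hci]
      · rw [← hY]
        rintro _ ⟨_, ⟨u, hu, rfl⟩, rfl⟩
        rw [← hc']
        exact (hfix _).1 (hVY ▸ Subgroup.mem_map_of_mem φ hu)
    have hne' : MA.map φ ≠ MB.map φ := fun h =>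
      mem_sets.2.2.2.2.1 ((Subgroup.map_injective hinj h) ▸ mem_sets.1)
    rcases four_gen_eq hinj hV hn hc hsq hcard with e | e
    · exact hne' (e.symm.trans (hno MA MB hA e))
    · exact hne' ((hno MB MA hB e).symm.trans e)

end Cfsg.Agent.Solv.DWr
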